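import Mathlib.Algebra.Module.Torsion.Basic
import Mathlib.Algebra.Module.Projective
import Mathlib.RingTheory.Nilpotent.Basic
import Mathlib.RingTheory.Ideal.Operations
import Mathlib.Tactic.Abel

/-!
Lifting linear maps out of a module whose reduction modulo an ideal is projective, and
endomorphisms which are the identity modulo a nilpotent ideal.
-/

set_option autoImplicit false
universe u v w w' w''

namespace K105.LiftMod

variable {A : Type u} [CommRing A]

theorem lift_of_projective_mod (I : Ideal A) {N : Type v} {P : Type w} {Q : Type w'}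
    [AddCommGroup N] [Module A N] [AddCommGroup P] [Module A P] [AddCommGroup Q] [Module A Q]
    [Module.Projective (A ⧸ I) (N ⧸ (I • ⊤ : Submodule A N))]
    (hP : Module.IsTorsionBySet A P I) (f : P →ₗ[A] Q) (hf : Function.Surjective f)
    (g : N →ₗ[A] Q) : ∃ h : N →ₗ[A] P, f ∘ₗ h = g := by
  have hQ : Module.IsTorsionBySet A Q I := by
    intro q a
    obtain ⟨p, rfl⟩ := hf q
    rw [← map_smul, hP, map_zero]
  let _ := hP.module
  let _ := hQ.module
  have hker : (I • ⊤ : Submodule A N) ≤ LinearMap.ker g := by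
    refine Submodule.smul_le.2 fun a ha y _ => ?_
    rw [LinearMap.mem_ker, map_smul]
    exact @hQ (g y) ⟨a, ha⟩
  have hq : ∀ (a : A) (q : Q), Ideal.Quotient.mk I a • q = a • q := fun a q =>
    Module.IsTorsionBySet.mk_smul hQ a q
  have hp : ∀ (a : A) (q : P), Ideal.Quotient.mk I a • q = a • q := fun a q =>
    Module.IsTorsionBySet.mk_smul hP a q
  have hn : ∀ (a : A) (q : N ⧸ (I • ⊤ : Submodule A N)), Ideal.Quotient.mk I a • q = a • q := fun a q =>
    Module.IsTorsionBySet.mk_smul (Module.isTorsionBySet_quotient_ideal_smul N I) a q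
  let f' : P →ₗ[A ⧸ I] Q :=
    { toFun := f
      map_add' := map_add f
      map_smul' := fun a x => by
        obtain ⟨a, rfl⟩ := Ideal.Quotient.mk_surjective a
        rw [RingHom.id_apply, hq, hp, map_smul] }
  let g' : (N ⧸ (I • ⊤ : Submodule A N)) →ₗ[A ⧸ I] Q :=
    { toFun := (I • ⊤ : Submodule A N).liftQ g hker
      map_add' := map_add _
      map_smul' := fun a x => by
        obtain ⟨a, rfl⟩ := Ideal.Quotient.mk_surjective a
        rw [RingHom.id_apply, hq, hn, map_smul] }
  obtain ⟨h, hh⟩ := Module.projective_lifting_property f' g' hf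
  refine ⟨{ toFun := fun x => h ((I • ⊤ : Submodule A N).mkQ x)
            map_add' := fun x y => by rw [map_add, map_add]
            map_smul' := fun a x => by rw [map_smul, ← hn, map_smul, hp, RingHom.id_apply] }, ?_⟩
  ext x
  exact LinearMap.congr_fun hh ((I • ⊤ : Submodule A N).mkQ x)

theorem isUnit_end_of_sub_mem {P : Type w} [AddCommGroup P] [Module A P] (φ : Module.End A P)
    (I : Ideal A) (n : ℕ) (hn : (I ^ n • ⊤ : Submodule A P) = ⊥)
    (h : ∀ x, φ x - x ∈ (I • ⊤ : Submodule A P)) : IsUnit φ := by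
  have h1 : ∀ k (x : P), ((φ - 1) ^ k) x ∈ (I ^ k • ⊤ : Submodule A P) := by
    intro k
    induction k with
    | zero => intro x; simp
    | succ k ih =>
      intro x
      rw [show ((φ - 1) ^ (k + 1)) x = (φ - 1) (((φ - 1) ^ k) x) by rw [pow_succ' (φ - 1), Module.End.mul_apply]]
      have h2 : ∀ y ∈ (I ^ k • ⊤ : Submodule A P), (φ - 1) y ∈ (I ^ (k + 1) • ⊤ : Submodule A P) := by
        intro y hy
        refine Submodule.smul_induction_on hy (fun a ha z _ => ?_) (fun y z hy hz => ?_)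
        · rw [map_smul, pow_succ, Submodule.mul_smul]
          exact Submodule.smul_mem_smul ha (h z)
        · rw [map_add]; exact add_mem hy hz
      exact h2 _ (ih x)
  have h3 : IsNilpotent (φ - 1) := ⟨n, by
    ext x
    have := h1 n x
    rw [hn, Submodule.mem_bot] at this
    rw [this]; rfl⟩
  have := h3.isUnit_add_one
  rwa [sub_add_cancel] at this

/-- If `u : M → N` has a left inverse modulo `𝔏`, if `J ≤ 𝔏` contains a power of `𝔏` and `N / J N` is
projective over `A / J`, then `u` has a left inverse modulo `J`. -/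
theorem exists_leftInverse_mod {M : Type v} {N : Type w} [AddCommGroup M] [Module A M]
    [AddCommGroup N] [Module A N] (u : M →ₗ[A] N) (𝔏 J : Ideal A) (hJ : J ≤ 𝔏) (n : ℕ)
    (hn : 𝔏 ^ n ≤ J) [Module.Projective (A ⧸ J) (N ⧸ (J • ⊤ : Submodule A N))]
    (w₀ : N →ₗ[A] M ⧸ (𝔏 • ⊤ : Submodule A M)) (hw₀ : ∀ x : M, w₀ (u x) = Submodule.Quotient.mk x) :
    ∃ w : N →ₗ[A] M ⧸ (J • ⊤ : Submodule A M), ∀ x : M, w (u x) = Submodule.Quotient.mk x := by
  let P := M ⧸ (J • ⊤ : Submodule A M)
  have hle : (J • ⊤ : Submodule A M) ≤ (𝔏 • ⊤ : Submodule A M) := Submodule.smul_mono_left hJ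
  let q : P →ₗ[A] M ⧸ (𝔏 • ⊤ : Submodule A M) := Submodule.factor hle
  have hq : Function.Surjective q := Submodule.factor_surjective hle
  have hPt : Module.IsTorsionBySet A P J := Module.isTorsionBySet_quotient_ideal_smul M J
  obtain ⟨w₁, hw₁⟩ := lift_of_projective_mod J hPt q hq w₀
  -- `w₁ ∘ u : M → P` kills `J • ⊤`
  have hk : (J • ⊤ : Submodule A M) ≤ LinearMap.ker (w₁ ∘ₗ u) := by
    refine Submodule.smul_le.2 fun a ha y _ => ?_
    rw [LinearMap.mem_ker, map_smul]
    exact @hPt _ ⟨a, ha⟩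
  let φ : P →ₗ[A] P := (J • ⊤ : Submodule A M).liftQ (w₁ ∘ₗ u) hk
  have hφ : ∀ x : M, φ (Submodule.Quotient.mk x) = w₁ (u x) := fun x => rfl
  have hφu : IsUnit (φ : Module.End A P) := by
    refine isUnit_end_of_sub_mem φ 𝔏 n ?_ fun x => ?_
    · rw [eq_bot_iff]
      refine Submodule.smul_le.2 fun a ha y _ => ?_
      rw [Submodule.mem_bot]
      exact @hPt y ⟨a, hn ha⟩
    · obtain ⟨x, rfl⟩ := Submodule.Quotient.mk_surjective _ x
      have h1 : q (φ (Submodule.Quotient.mk x) - Submodule.Quotient.mk x) = 0 := by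
        rw [map_sub, hφ]
        have := LinearMap.congr_fun hw₁ (u x)
        rw [LinearMap.comp_apply, hw₀] at this
        rw [this, sub_eq_zero]
        rfl
      obtain ⟨y, hy⟩ := Submodule.Quotient.mk_surjective _ (φ (Submodule.Quotient.mk x) - Submodule.Quotient.mk x)
      rw [← hy] at h1 ⊢
      have h2 : y ∈ (𝔏 • ⊤ : Submodule A M) := (Submodule.Quotient.mk_eq_zero _).1 h1
      have h3 : (Submodule.Quotient.mk y : P) ∈ (𝔏 • ⊤ : Submodule A M).map (J • ⊤ : Submodule A M).mkQ :=
        ⟨y, h2, rfl⟩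
      rw [Submodule.map_smul''] at h3
      exact Submodule.smul_mono le_rfl le_top h3
  obtain ⟨ψ, hψ⟩ := hφu
  refine ⟨(ψ⁻¹ : (Module.End A P)ˣ).val ∘ₗ w₁, fun x => ?_⟩
  rw [LinearMap.comp_apply, ← hφ, ← hψ, ← Module.End.mul_apply]
  simp

end K105.LiftMod
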