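import Groth.Agent.Ega41.OmegaProj
import Groth.Agent.Ega41.K105.LiftMod
import Mathlib.RingTheory.Ideal.Cotangent
import Mathlib.RingTheory.Filtration
import Mathlib.RingTheory.Derivation.Basic
import Mathlib.Tactic.LinearCombination

/-!
Formal smoothness of a quotient of an adically formally smooth algebra, in terms of derivations.
-/

set_option autoImplicit false
universe u

namespace K105.AdicQuot

variable {A B : Type u} [CommRing A] [CommRing B] [Algebra A B]

/-- There is a derivation `B → (J/J²)/𝔮(J/J²)` extending the canonical map of `J`. -/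
def HasDer (A : Type u) {B : Type u} [CommRing A] [CommRing B] [Algebra A B] (J 𝔮 : Ideal B) : Prop :=
  ∃ D : Derivation A B (J.Cotangent ⧸ (𝔮 • ⊤ : Submodule B J.Cotangent)),
    ∀ (x : B) (hx : x ∈ J), D x = Submodule.Quotient.mk (J.toCotangent ⟨x, hx⟩)

theorem mem_smul_of_factor_eq_zero {M : Type u} [AddCommGroup M] [Module B M] {𝔞 𝔮 : Ideal B}
    (hle : (𝔞 • ⊤ : Submodule B M) ≤ (𝔮 • ⊤ : Submodule B M)) (y : M ⧸ (𝔞 • ⊤ : Submodule B M))
    (hy : Submodule.factor hle y = 0) : y ∈ (𝔮 • ⊤ : Submodule B (M ⧸ (𝔞 • ⊤ : Submodule B M))) := by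
  obtain ⟨y, rfl⟩ := Submodule.Quotient.mk_surjective _ y
  have h2 : y ∈ (𝔮 • ⊤ : Submodule B M) := (Submodule.Quotient.mk_eq_zero _).1 hy
  have h3 : (Submodule.Quotient.mk y : M ⧸ (𝔞 • ⊤ : Submodule B M)) ∈
      (𝔮 • ⊤ : Submodule B M).map (𝔞 • ⊤ : Submodule B M).mkQ := ⟨y, h2, rfl⟩
  rw [Submodule.map_smul''] at h3
  exact Submodule.smul_mono le_rfl le_top h3

/-- A derivation into a module killed by `J` induces a linear map out of the conormal module. -/
noncomputable def conormal {N : Type u} [AddCommGroup N] [Module B N] [Module A N]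
    (J : Ideal B) (D : Derivation A B N) (hJ : ∀ x ∈ J, ∀ z : N, x • z = 0) :
    J.Cotangent →ₗ[B] N :=
  Submodule.liftQ (J • ⊤ : Submodule B J)
    { toFun := fun x => D x
      map_add' := fun x y => by rw [Submodule.coe_add, map_add]
      map_smul' := fun b x => by
        rw [Submodule.coe_smul, smul_eq_mul, Derivation.leibniz, hJ x x.2, add_zero, RingHom.id_apply] }
    (by
      rw [Submodule.smul_le]
      intro b hb x _
      change D ((b • x : J) : B) = 0
      rw [Submodule.coe_smul, smul_eq_mul, Derivation.leibniz, hJ x x.2, hJ b hb, add_zero])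

theorem conormal_toCotangent {N : Type u} [AddCommGroup N] [Module B N] [Module A N]
    (J : Ideal B) (D : Derivation A B N) (hJ : ∀ x ∈ J, ∀ z : N, x • z = 0) (x : J) :
    conormal J D hJ (J.toCotangent x) = D x := rfl

theorem smul_quot_eq_zero {M : Type u} [AddCommGroup M] [Module B M] {𝔞 : Ideal B} {b : B} (hb : b ∈ 𝔞)
    (z : M ⧸ (𝔞 • ⊤ : Submodule B M)) : b • z = 0 := by
  obtain ⟨z, rfl⟩ := Submodule.Quotient.mk_surjective _ z
  rw [← Submodule.Quotient.mk_smul, Submodule.Quotient.mk_eq_zero]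
  exact Submodule.smul_mem_smul hb Submodule.mem_top

/-- Step B: passing from `𝔮` to a smaller ideal `𝔞`. -/
theorem HasDer.of_le {I J 𝔮 𝔞 : Ideal B} (hB : CAlgX.IsAdicFormallySmooth A B I) (hJ : J ≤ 𝔞)
    (h𝔞 : 𝔞 ≤ 𝔮) (k : ℕ) (hk : I ^ k ≤ 𝔞) (m : ℕ) (hm : 𝔮 ^ m ≤ 𝔞) (h : HasDer A J 𝔮) :
    HasDer A J 𝔞 := by
  obtain ⟨D₀, hD₀⟩ := h
  let P := J.Cotangent ⧸ (𝔞 • ⊤ : Submodule B J.Cotangent)
  have hle : (𝔞 • ⊤ : Submodule B J.Cotangent) ≤ (𝔮 • ⊤ : Submodule B J.Cotangent) :=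
    Submodule.smul_mono_left h𝔞
  obtain ⟨D₁, hD₁⟩ := Groth.Agent.Ega41.OmegaProj.exists_derivation_lift hB k
    (M := P) (N := J.Cotangent ⧸ (𝔮 • ⊤ : Submodule B J.Cotangent))
    (fun b hb z => smul_quot_eq_zero (hk hb) z) (Submodule.factor hle) (Submodule.factor_surjective hle) D₀
  let φ₀ : J.Cotangent →ₗ[B] P := conormal J D₁ (fun x hx z => smul_quot_eq_zero (hJ hx) z)
  have hker : (𝔞 • ⊤ : Submodule B J.Cotangent) ≤ LinearMap.ker φ₀ := by
    refine Submodule.smul_le.2 fun a ha y _ => ?_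
    rw [LinearMap.mem_ker, map_smul, smul_quot_eq_zero ha]
  let φ : P →ₗ[B] P := (𝔞 • ⊤ : Submodule B J.Cotangent).liftQ φ₀ hker
  have hφ : ∀ (x : B) (hx : x ∈ J), φ (Submodule.Quotient.mk (J.toCotangent ⟨x, hx⟩)) = D₁ x :=
    fun x hx => rfl
  have hφu : IsUnit (φ : Module.End B P) := by
    refine K105.LiftMod.isUnit_end_of_sub_mem φ 𝔮 m ?_ fun x => ?_
    · rw [eq_bot_iff]
      refine Submodule.smul_le.2 fun a ha y _ => ?_
      rw [Submodule.mem_bot]
      exact smul_quot_eq_zero (hm ha) y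
    · obtain ⟨x, rfl⟩ := Submodule.Quotient.mk_surjective _ x
      obtain ⟨x, rfl⟩ := J.toCotangent_surjective x
      apply mem_smul_of_factor_eq_zero hle
      rw [map_sub, hφ x x.2, hD₁, hD₀ x x.2, sub_eq_zero]
      rfl
  obtain ⟨ψ, hψ⟩ := hφu
  refine ⟨(ψ⁻¹ : (Module.End B P)ˣ).val.compDer D₁, fun x hx => ?_⟩
  change (ψ⁻¹ : (Module.End B P)ˣ).val (D₁ x) = _
  rw [← hφ x hx, ← hψ, ← Module.End.mul_apply]
  simp

/-- Step C: the criterion implies formal smoothness of the quotient. -/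
theorem isAdicFormallySmooth_quotient {I J : Ideal B} (hB : CAlgX.IsAdicFormallySmooth A B I)
    (n : ℕ) (h : ∀ k ≥ n, HasDer A J (J ⊔ I ^ k)) :
    CAlgX.IsAdicFormallySmooth A (B ⧸ J) (I.map (Ideal.Quotient.mk J)) := by
  intro E _ _ N hN ψ hψ
  obtain ⟨k, hk, hkn⟩ : ∃ k, (∀ x ∈ I ^ k, ψ (Ideal.Quotient.mk J x) = 0) ∧ n ≤ k := by
    obtain ⟨k, hk⟩ := hψ
    refine ⟨k + n, fun x hx => hk _ ?_, by omega⟩
    rw [← Ideal.map_pow]
    exact Ideal.mem_map_of_mem _ (Ideal.pow_le_pow_right (by omega) hx)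
  let π : B →ₐ[A] B ⧸ J := Ideal.Quotient.mkₐ A J
  obtain ⟨χ, hχ⟩ := hB E N hN (ψ.comp π) ⟨k, fun x hx => hk x hx⟩
  have hχ' : ∀ b, Ideal.Quotient.mk N (χ b) = ψ (Ideal.Quotient.mk J b) := fun b =>
    DFunLike.congr_fun hχ b
  have hNN : ∀ x ∈ N, ∀ y ∈ N, x * y = 0 := by
    intro x hx y hy
    have : x * y ∈ N ^ 2 := by rw [pow_two]; exact Ideal.mul_mem_mul hx hy
    rwa [hN, Ideal.mem_bot] at this
  have hχJ : ∀ b ∈ J ⊔ I ^ k, χ b ∈ N := by
    intro b hb
    rw [← Ideal.Quotient.eq_zero_iff_mem, hχ']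
    obtain ⟨x, hx, y, hy, rfl⟩ := Submodule.mem_sup.1 hb
    rw [map_add, Ideal.Quotient.eq_zero_iff_mem.2 hx, zero_add, hk y hy]
  let _ : Module B N := Module.compHom N (χ : B →+* E)
  have hsm : ∀ (b : B) (z : N), ((b • z : N) : E) = χ b * z := fun _ _ => rfl
  have htow : IsScalarTower A B N := ⟨fun a b z => by
    apply Subtype.ext
    rw [hsm, map_smul]
    change (a • χ b) * (z : E) = a • (χ b * (z : E))
    rw [smul_mul_assoc]⟩
  have hkill : ∀ b ∈ J ⊔ I ^ k, ∀ z : N, b • z = 0 := fun b hb z => by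
    apply Subtype.ext
    rw [hsm]
    exact hNN _ (hχJ b hb) _ z.2
  -- the map `J/J² → N`
  let φ₀ : J.Cotangent →ₗ[B] N := Submodule.liftQ (J • ⊤ : Submodule B J)
    { toFun := fun x => ⟨χ x, hχJ x (Submodule.mem_sup_left x.2)⟩
      map_add' := fun x y => by
        apply Subtype.ext
        change χ ((x + y : J) : B) = χ x + χ y
        rw [Submodule.coe_add, map_add]
      map_smul' := fun b x => by
        apply Subtype.ext
        change χ ((b • x : J) : B) = χ b * χ x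
        rw [Submodule.coe_smul, smul_eq_mul, map_mul] }
    (by
      rw [Submodule.smul_le]
      intro b hb x _
      rw [LinearMap.mem_ker]
      apply Subtype.ext
      change χ ((b • x : J) : B) = 0
      rw [Submodule.coe_smul, smul_eq_mul, map_mul]
      exact hNN _ (hχJ b (Submodule.mem_sup_left hb)) _ (hχJ x (Submodule.mem_sup_left x.2)))
  have hφ₀ : ∀ x : J, ((φ₀ (J.toCotangent x) : N) : E) = χ x := fun x => rfl
  have hker : ((J ⊔ I ^ k) • ⊤ : Submodule B J.Cotangent) ≤ LinearMap.ker φ₀ := by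
    refine Submodule.smul_le.2 fun a ha y _ => ?_
    rw [LinearMap.mem_ker, map_smul, hkill a ha]
  let φ := ((J ⊔ I ^ k) • ⊤ : Submodule B J.Cotangent).liftQ φ₀ hker
  obtain ⟨D, hD⟩ := h k hkn
  let D' : Derivation A B N := φ.compDer D
  have hD' : ∀ x ∈ J, ((D' x : N) : E) = χ x := fun x hx => by
    change ((φ (D x) : N) : E) = χ x
    rw [hD x hx]
    exact hφ₀ ⟨x, hx⟩
  let χ' : B →ₐ[A] E :=
    { toFun := fun b => χ b - (D' b : E)
      map_one' := by rw [map_one, Derivation.map_one_eq_zero]; exact sub_zero _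
      map_zero' := by rw [map_zero, map_zero]; exact sub_zero _
      map_add' := fun a b => by
        rw [map_add, map_add, Submodule.coe_add]; ring
      map_mul' := fun a b => by
        have h0 := hNN _ (D' a).2 _ (D' b).2
        rw [map_mul, Derivation.leibniz, Submodule.coe_add, hsm, hsm]
        linear_combination -h0
      commutes' := fun a => by
        rw [AlgHom.commutes, Derivation.map_algebraMap]; exact sub_zero _ }
  have hχ'J : ∀ x ∈ J, χ' x = 0 := fun x hx => by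
    change χ x - (D' x : E) = 0
    rw [hD' x hx, sub_self]
  refine ⟨Ideal.Quotient.liftₐ J χ' hχ'J, ?_⟩
  ext b
  obtain ⟨b, rfl⟩ := Ideal.Quotient.mk_surjective b
  change Ideal.Quotient.mk N (χ b - (D' b : E)) = ψ (Ideal.Quotient.mk J b)
  rw [map_sub, hχ', Ideal.Quotient.eq_zero_iff_mem.2 (D' b).2, sub_zero]

end K105.AdicQuot
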