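import Groth.Agent.Ega41.K105.AdicQuot

/-!
Formal smoothness of a quotient: the derivation criterion is necessary (Noetherian case).
-/

set_option autoImplicit false
universe u

namespace K105.AdicQuot2

open K105.AdicQuot

variable {A B : Type u} [CommRing A] [CommRing B] [Algebra A B]

theorem toCotangent_mem_smul {J 𝔮 : Ideal B} {x : B} (hx : x ∈ J) (hx' : x ∈ 𝔮 * J) :
    J.toCotangent ⟨x, hx⟩ ∈ (𝔮 • ⊤ : Submodule B J.Cotangent) := by
  have h1 : (𝔮 • ⊤ : Submodule B J).map J.subtype = 𝔮 • J := by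
    rw [Submodule.map_smul'', Submodule.map_top, Submodule.range_subtype]
  have h2 : x ∈ (𝔮 • ⊤ : Submodule B J).map J.subtype := by
    rw [h1]; exact hx'
  obtain ⟨y, hy, hyx⟩ := h2
  have h3 : y = ⟨x, hx⟩ := Subtype.ext hyx
  rw [← h3]
  have h4 : J.toCotangent y ∈ (𝔮 • ⊤ : Submodule B J).map J.toCotangent := ⟨y, hy, rfl⟩
  rw [Submodule.map_smul''] at h4
  exact Submodule.smul_mono le_rfl le_top h4

theorem exists_artinRees [IsNoetherianRing B] (I J : Ideal B) (n : ℕ) :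
    ∃ k, n ≤ k ∧ ∀ x ∈ I ^ k, x ∈ J → x ∈ I ^ n * J := by
  obtain ⟨k, hk⟩ := Ideal.exists_pow_inf_eq_pow_smul I (J : Submodule B B)
  refine ⟨n + k, by omega, fun x hx hxJ => ?_⟩
  have h1 := hk (n + k) (by omega)
  have h2 : x ∈ (I ^ (n + k) • ⊤ ⊓ J : Submodule B B) := by
    refine ⟨?_, hxJ⟩
    have : (I ^ (n + k) • ⊤ : Submodule B B) = I ^ (n + k) := by
      rw [smul_eq_mul, Ideal.mul_top]
    rw [this]; exact hx
  rw [h1, Nat.add_sub_cancel] at h2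
  exact Submodule.smul_mono le_rfl inf_le_right h2

theorem hasDer_of_isAdicFormallySmooth [IsNoetherianRing B] {I J 𝔮 : Ideal B}
    (h : CAlgX.IsAdicFormallySmooth A (B ⧸ J) (I.map (Ideal.Quotient.mk J))) (hJ : J ≤ 𝔮)
    (n : ℕ) (hn : I ^ n ≤ 𝔮) : HasDer A J 𝔮 := by
  obtain ⟨k, -, hAR⟩ := exists_artinRees I J n
  let 𝔟 : Ideal B := 𝔮 * J ⊔ I ^ k
  let mk𝔟 : B →ₐ[A] B ⧸ 𝔟 := Ideal.Quotient.mkₐ A 𝔟
  have hmk : ∀ x, mk𝔟 x = 0 ↔ x ∈ 𝔟 := fun x => Ideal.Quotient.eq_zero_iff_mem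
  have hmks : Function.Surjective mk𝔟 := Ideal.Quotient.mk_surjective
  let 𝔑 : Ideal (B ⧸ 𝔟) := J.map mk𝔟
  have h𝔑 : 𝔑 ^ 2 = ⊥ := by
    rw [← Ideal.map_pow, eq_bot_iff, Ideal.map_le_iff_le_comap]
    intro x hx
    rw [Ideal.mem_comap, Ideal.mem_bot, hmk]
    rw [pow_two] at hx
    exact Ideal.mem_sup_left (Ideal.mul_mono_left hJ hx)
  have hmemJ : ∀ x ∈ J, mk𝔟 x ∈ 𝔑 := fun x hx => Ideal.mem_map_of_mem _ hx
  let ψ : (B ⧸ J) →ₐ[A] (B ⧸ 𝔟) ⧸ 𝔑 :=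
    Ideal.Quotient.liftₐ J ((Ideal.Quotient.mkₐ A 𝔑).comp mk𝔟) (fun x hx =>
      Ideal.Quotient.eq_zero_iff_mem.2 (hmemJ x hx))
  have hψ : ∀ x, ψ (Ideal.Quotient.mk J x) = Ideal.Quotient.mk 𝔑 (mk𝔟 x) := fun x => rfl
  obtain ⟨v, hv⟩ := h (B ⧸ 𝔟) 𝔑 h𝔑 ψ ⟨k, by
    have h1 : (I.map (Ideal.Quotient.mk J)) ^ k ≤ RingHom.ker (ψ : (B ⧸ J) →+* (B ⧸ 𝔟) ⧸ 𝔑) := by
      rw [← Ideal.map_pow, Ideal.map_le_iff_le_comap]
      intro x hx
      rw [Ideal.mem_comap, RingHom.mem_ker]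
      change ψ (Ideal.Quotient.mk J x) = 0
      rw [hψ, (hmk x).2 (Ideal.mem_sup_right hx), map_zero]
    exact fun x hx => h1 hx⟩
  have hv' : ∀ b, Ideal.Quotient.mk 𝔑 (v (Ideal.Quotient.mk J b)) = Ideal.Quotient.mk 𝔑 (mk𝔟 b) :=
    fun b => DFunLike.congr_fun hv (Ideal.Quotient.mk J b)
  have hNN : ∀ x ∈ 𝔑, ∀ y ∈ 𝔑, x * y = 0 := by
    intro x hx y hy
    have : x * y ∈ 𝔑 ^ 2 := by rw [pow_two]; exact Ideal.mul_mem_mul hx hy
    rwa [h𝔑, Ideal.mem_bot] at this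
  have hsm : ∀ (b : B) (z : 𝔑), ((b • z : 𝔑) : B ⧸ 𝔟) = mk𝔟 b * z := fun b z => by
    change b • (z : B ⧸ 𝔟) = _
    rw [Algebra.smul_def]
    rfl
  have hDmem : ∀ b, mk𝔟 b - v (Ideal.Quotient.mk J b) ∈ 𝔑 := fun b => by
    rw [← Ideal.Quotient.eq_zero_iff_mem, map_sub, hv', sub_self]
  let D : Derivation A B 𝔑 := Derivation.mk'
    { toFun := fun b => ⟨mk𝔟 b - v (Ideal.Quotient.mk J b), hDmem b⟩
      map_add' := fun a b => by
        apply Subtype.ext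
        change mk𝔟 (a + b) - v (Ideal.Quotient.mk J (a + b)) =
          (mk𝔟 a - v (Ideal.Quotient.mk J a)) + (mk𝔟 b - v (Ideal.Quotient.mk J b))
        rw [map_add, map_add, map_add]; ring
      map_smul' := fun a b => by
        apply Subtype.ext
        change mk𝔟 (a • b) - v (Ideal.Quotient.mk J (a • b)) =
          a • (mk𝔟 b - v (Ideal.Quotient.mk J b))
        have h2 : Ideal.Quotient.mk J (a • b) = a • Ideal.Quotient.mk J b := rfl
        rw [h2, map_smul, map_smul, smul_sub] }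
    (fun a b => by
      apply Subtype.ext
      rw [Submodule.coe_add, hsm, hsm]
      change mk𝔟 (a * b) - v (Ideal.Quotient.mk J (a * b)) =
        mk𝔟 a * (mk𝔟 b - v (Ideal.Quotient.mk J b)) + mk𝔟 b * (mk𝔟 a - v (Ideal.Quotient.mk J a))
      have h0 := hNN _ (hDmem a) _ (hDmem b)
      rw [map_mul, map_mul, map_mul]
      linear_combination -h0)
  have hDJ : ∀ x ∈ J, ((D x : 𝔑) : B ⧸ 𝔟) = mk𝔟 x := fun x hx => by
    change mk𝔟 x - v (Ideal.Quotient.mk J x) = mk𝔟 x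
    rw [Ideal.Quotient.eq_zero_iff_mem.2 hx, map_zero, sub_zero]
  -- the identification of `(J/J²)/𝔮` with `𝔑`
  let θ₀ : J.Cotangent →ₗ[B] 𝔑 := Submodule.liftQ (J • ⊤ : Submodule B J)
    { toFun := fun x => ⟨mk𝔟 x, hmemJ x x.2⟩
      map_add' := fun x y => by
        apply Subtype.ext
        change mk𝔟 ((x + y : J) : B) = mk𝔟 x + mk𝔟 y
        rw [Submodule.coe_add, map_add]
      map_smul' := fun b x => by
        apply Subtype.ext
        rw [RingHom.id_apply, hsm]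
        change mk𝔟 ((b • x : J) : B) = mk𝔟 b * mk𝔟 x
        rw [Submodule.coe_smul, smul_eq_mul, map_mul] }
    (by
      rw [Submodule.smul_le]
      intro b hb x _
      rw [LinearMap.mem_ker]
      apply Subtype.ext
      change mk𝔟 ((b • x : J) : B) = 0
      rw [Submodule.coe_smul, smul_eq_mul, hmk]
      exact Ideal.mem_sup_left (Ideal.mul_mem_mul (hJ hb) x.2))
  have hθ₀ : ∀ x : J, ((θ₀ (J.toCotangent x) : 𝔑) : B ⧸ 𝔟) = mk𝔟 x := fun x => rfl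
  have hker : (𝔮 • ⊤ : Submodule B J.Cotangent) ≤ LinearMap.ker θ₀ := by
    refine Submodule.smul_le.2 fun a ha y _ => ?_
    obtain ⟨y, rfl⟩ := J.toCotangent_surjective y
    rw [LinearMap.mem_ker, map_smul]
    apply Subtype.ext
    rw [hsm, hθ₀, ← map_mul]
    exact (hmk _).2 (Ideal.mem_sup_left (Ideal.mul_mem_mul ha y.2))
  let θ := (𝔮 • ⊤ : Submodule B J.Cotangent).liftQ θ₀ hker
  have hθ : ∀ x : J, ((θ (Submodule.Quotient.mk (J.toCotangent x)) : 𝔑) : B ⧸ 𝔟) = mk𝔟 x := fun x => rfl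
  have hbij : Function.Bijective θ := by
    constructor
    · rw [injective_iff_map_eq_zero]
      intro z hz
      obtain ⟨z, rfl⟩ := Submodule.Quotient.mk_surjective _ z
      obtain ⟨x, rfl⟩ := J.toCotangent_surjective z
      have h1 := hθ x
      rw [hz] at h1
      have h2 : (x : B) ∈ 𝔟 := (hmk _).1 h1.symm
      obtain ⟨y, hy, w, hw, hyw⟩ := Submodule.mem_sup.1 h2
      have hyJ : y ∈ J := Ideal.mul_le_right hy
      have hwJ : w ∈ J := by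
        have : w = x - y := by rw [← hyw]; ring
        rw [this]
        exact J.sub_mem x.2 hyJ
      have hwq : w ∈ 𝔮 * J := Ideal.mul_mono_left hn (hAR w hw hwJ)
      have hxq : (x : B) ∈ 𝔮 * J := by rw [← hyw]; exact (𝔮 * J).add_mem hy hwq
      rw [Submodule.Quotient.mk_eq_zero]
      exact toCotangent_mem_smul x.2 hxq
    · rintro ⟨z, hz⟩
      obtain ⟨x, hx, rfl⟩ := (Ideal.mem_map_iff_of_surjective mk𝔟 hmks).1 hz
      exact ⟨Submodule.Quotient.mk (J.toCotangent ⟨x, hx⟩), Subtype.ext (hθ ⟨x, hx⟩)⟩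
  let e := LinearEquiv.ofBijective θ hbij
  refine ⟨e.symm.toLinearMap.compDer D, fun x hx => ?_⟩
  change e.symm (D x) = _
  rw [LinearEquiv.symm_apply_eq]
  apply Subtype.ext
  rw [hDJ x hx]
  exact (hθ ⟨x, hx⟩).symm

end K105.AdicQuot2
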