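import Groth.Prelude.Def_Exal
import Groth.Prelude.Def_Exal2
import Mathlib.Tactic.Abel
import Mathlib.Tactic.Ring
import Mathlib.Tactic.LinearCombination

/-!
Basic facts on extensions of a commutative algebra by a module: a morphism of extensions is an
equivalence; sections as ring maps; the extension `ofDer` attached to a derivation, in general universes.
-/

set_option autoImplicit false
universe u v w

namespace K105.ExalBasic

open Exal

section Basic

variable {A : Type u} {B L : Type v} [CommRing A] [CommRing B] [Algebra A B] [AddCommGroup L]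
  [Module B L]

theorem proj_incl (X : Ext A B L) (z : L) : X.proj (X.incl z) = 0 :=
  (X.isExtension.exact _).2 ⟨z, rfl⟩

theorem incl_mul_incl (X : Ext A B L) (z z' : L) : X.incl z * X.incl z' = 0 := by
  rw [X.isExtension.mul_incl, proj_incl, zero_smul, map_zero]

theorem mul_incl (X : Ext A B L) (x : X.E) (z : L) : x * X.incl z = X.incl (X.proj x • z) :=
  X.isExtension.mul_incl x z

theorem incl_mul (X : Ext A B L) (x : X.E) (z : L) : X.incl z * x = X.incl (X.proj x • z) := by
  rw [mul_comm, mul_incl]

/-- A morphism of extensions is an equivalence. -/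
theorem nonempty_equiv_of_algHom (X Y : Ext A B L) (φ : X.E →ₐ[A] Y.E)
    (hp : ∀ x, Y.proj (φ x) = X.proj x) (hi : ∀ z, φ (X.incl z) = Y.incl z) :
    ∃ e : X.Equiv Y, ∀ x, e.toAlgEquiv x = φ x := by
  have hbij : Function.Bijective φ := by
    constructor
    · rw [injective_iff_map_eq_zero]
      intro x hx
      have h1 : X.proj x = 0 := by rw [← hp, hx, map_zero]
      obtain ⟨z, rfl⟩ := (X.isExtension.exact _).1 h1
      rw [hi] at hx
      have : z = 0 := Y.isExtension.incl_injective (by rw [hx, map_zero])
      rw [this, map_zero]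
    · intro y
      obtain ⟨x, hx⟩ := X.isExtension.proj_surjective (Y.proj y)
      have h1 : Y.proj (y - φ x) = 0 := by rw [map_sub, hp, hx, sub_self]
      obtain ⟨z, hz⟩ := (Y.isExtension.exact _).1 h1
      refine ⟨x + X.incl z, ?_⟩
      rw [map_add, hi, hz, add_sub_cancel]
  exact ⟨⟨AlgEquiv.ofBijective φ hbij, fun x => hp x, fun z => hi z⟩, fun x => rfl⟩

variable (A' : Type w) [CommRing A'] [Algebra A' A] [Algebra A' B] [IsScalarTower A' A B]

theorem isTrivialOver_iff (X : Ext A B L) :
    X.IsTrivialOver A' ↔ ∃ s : B →+* X.E, (∀ b, X.proj (s b) = b) ∧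
      ∀ a, s (algebraMap A' B a) = algebraMap A X.E (algebraMap A' A a) := by
  constructor
  · rintro ⟨s, hs⟩
    exact ⟨s.toRingHom, fun b => hs b, fun a => s.commutes a⟩
  · rintro ⟨s, hs, hs'⟩
    let t : B →ₐ[A'] (X.restrictBase A').E :=
      { toFun := s
        map_one' := s.map_one
        map_mul' := s.map_mul
        map_zero' := s.map_zero
        map_add' := s.map_add
        commutes' := hs' }
    exact ⟨t, hs⟩

theorem isTrivial_iff (X : Ext A B L) :
    X.IsTrivial ↔ ∃ s : B →+* X.E, (∀ b, X.proj (s b) = b) ∧
      ∀ a, s (algebraMap A B a) = algebraMap A X.E a := by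
  constructor
  · rintro ⟨s, hs⟩
    exact ⟨s.toRingHom, fun b => hs b, fun a => s.commutes a⟩
  · rintro ⟨s, hs, hs'⟩
    exact ⟨{ s with commutes' := hs' }, hs⟩

end Basic

section Component

variable {A : Type u} {B L : Type v} [CommRing A] [CommRing B] [Algebra A B] [AddCommGroup L]
  [Module B L] (X : Ext A B L) (s : B →+* X.E) (hs : ∀ b, X.proj (s b) = b)

/-- The `L`-component `x ↦ x - s (p x)` of an extension with a section `s`. -/
noncomputable def comp : X.E →+ L where
  toFun x := X.kerLift (x - s (X.proj x)) (by rw [map_sub, hs, sub_self])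
  map_zero' := by
    apply X.isExtension.incl_injective
    rw [Ext.incl_kerLift, map_zero, map_zero, sub_zero, map_zero]
  map_add' x y := by
    apply X.isExtension.incl_injective
    rw [Ext.incl_kerLift, map_add, map_add, map_add, Ext.incl_kerLift, Ext.incl_kerLift]
    abel

theorem incl_comp (x : X.E) : X.incl (comp X s hs x) = x - s (X.proj x) :=
  X.incl_kerLift (x - s (X.proj x)) (by rw [map_sub, hs, sub_self])

theorem comp_incl (z : L) : comp X s hs (X.incl z) = z := by
  apply X.isExtension.incl_injective
  rw [incl_comp, proj_incl, map_zero, sub_zero]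

theorem comp_section (b : B) : comp X s hs (s b) = 0 := by
  apply X.isExtension.incl_injective
  rw [incl_comp, hs, sub_self, map_zero]

theorem comp_mul (x y : X.E) :
    comp X s hs (x * y) = X.proj x • comp X s hs y + X.proj y • comp X s hs x := by
  apply X.isExtension.incl_injective
  have h0 : X.incl (comp X s hs x) * X.incl (comp X s hs y) = 0 := incl_mul_incl X _ _
  rw [incl_comp, map_add, ← mul_incl, ← mul_incl, incl_comp, incl_comp, map_mul, map_mul]
  rw [incl_comp, incl_comp] at h0
  linear_combination -h0

theorem comp_one : comp X s hs 1 = 0 := by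
  rw [← map_one s, comp_section]

end Component

attribute [local instance] Exal.opModule Exal.isCentralScalar_opModule

section OfDer

variable {A : Type u} {C L : Type v} [CommRing A] [CommRing C] [Algebra A C] [AddCommGroup L]
  [Module C L]

/-- An additive map `A → L` satisfying the Leibniz rule through `A → C`. -/
def IsLeibniz (C : Type v) [CommRing C] [Algebra A C] [Module C L] (D : A →+ L) : Prop :=
  ∀ a b : A, D (a * b) = algebraMap A C a • D b + algebraMap A C b • D a

theorem IsLeibniz.map_one {D : A →+ L} (hD : IsLeibniz C D) : D 1 = 0 := by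
  have h := hD 1 1
  have h1 : algebraMap A C 1 = 1 := RingHom.map_one _
  rw [mul_one, h1, one_smul] at h
  exact left_eq_add.1 h

/-- The carrier of the extension attached to a derivation. -/
@[nolint unusedArguments]
def OfDerCarrier {D : A →+ L} (_hD : IsLeibniz C D) : Type v := TrivSqZeroExt C L

instance {D : A →+ L} (hD : IsLeibniz C D) : CommRing (OfDerCarrier hD) :=
  inferInstanceAs (CommRing (TrivSqZeroExt C L))

/-- The structure map `a ↦ (a, D a)`. -/
noncomputable def ofDerHom {D : A →+ L} (hD : IsLeibniz C D) : A →+* TrivSqZeroExt C L where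
  toFun x := TrivSqZeroExt.inl (algebraMap A C x) + TrivSqZeroExt.inr (D x)
  map_one' := by
    rw [map_one, hD.map_one, TrivSqZeroExt.inr_zero, add_zero, TrivSqZeroExt.inl_one]
  map_mul' x y := by
    apply TrivSqZeroExt.ext
    · simp
    · simp only [TrivSqZeroExt.snd_add, TrivSqZeroExt.snd_inl, TrivSqZeroExt.snd_inr, zero_add,
        TrivSqZeroExt.snd_mul, TrivSqZeroExt.fst_add, TrivSqZeroExt.fst_inl, TrivSqZeroExt.fst_inr,
        add_zero, op_smul_eq_smul]
      rw [hD]
  map_zero' := by
    rw [map_zero, map_zero, TrivSqZeroExt.inl_zero, TrivSqZeroExt.inr_zero, add_zero]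
  map_add' x y := by
    rw [map_add, map_add, TrivSqZeroExt.inl_add, TrivSqZeroExt.inr_add]
    abel

noncomputable instance {D : A →+ L} (hD : IsLeibniz C D) : Algebra A (OfDerCarrier hD) :=
  (ofDerHom hD : A →+* OfDerCarrier hD).toAlgebra

/-- The `A`-extension of `C` by `L` attached to a derivation `D : A → L`. -/
noncomputable def ofDer {D : A →+ L} (hD : IsLeibniz C D) : Ext A C L where
  E := OfDerCarrier hD
  proj :=
    { toFun := fun x => TrivSqZeroExt.fst x
      map_one' := TrivSqZeroExt.fst_one
      map_mul' := TrivSqZeroExt.fst_mul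
      map_zero' := TrivSqZeroExt.fst_zero
      map_add' := TrivSqZeroExt.fst_add
      commutes' := fun x => by
        change TrivSqZeroExt.fst (TrivSqZeroExt.inl (algebraMap A C x) + TrivSqZeroExt.inr (D x)) = _
        rw [TrivSqZeroExt.fst_add, TrivSqZeroExt.fst_inl, TrivSqZeroExt.fst_inr, add_zero] }
  incl := (TrivSqZeroExt.inrHom C L).toAddMonoidHom
  isExtension :=
    { proj_surjective := fun c => ⟨TrivSqZeroExt.inl c, rfl⟩
      incl_injective := TrivSqZeroExt.inr_injective
      exact := fun x => by
        constructor
        · intro hx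
          exact ⟨TrivSqZeroExt.snd x, TrivSqZeroExt.ext hx.symm rfl⟩
        · rintro ⟨z, rfl⟩
          rfl
      mul_incl := fun x z => by
        refine TrivSqZeroExt.ext ?_ ?_
        · change TrivSqZeroExt.fst x * 0 = 0
          exact mul_zero _
        · change TrivSqZeroExt.fst x • z + MulOpposite.op (0 : C) • TrivSqZeroExt.snd x = TrivSqZeroExt.fst x • z
          rw [MulOpposite.op_zero, zero_smul, add_zero] }

/-- The canonical section of `ofDer`. -/
noncomputable def ofDerSection {D : A →+ L} (hD : IsLeibniz C D) : C →+* (ofDer hD).E :=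
  TrivSqZeroExt.inlHom C L

theorem proj_ofDerSection {D : A →+ L} (hD : IsLeibniz C D) (c : C) :
    (ofDer hD).proj (ofDerSection hD c) = c := rfl

theorem algebraMap_ofDer {D : A →+ L} (hD : IsLeibniz C D) (a : A) :
    algebraMap A (ofDer hD).E a = ofDerSection hD (algebraMap A C a) + (ofDer hD).incl (D a) := rfl

theorem comp_algebraMap_ofDer {D : A →+ L} (hD : IsLeibniz C D) (a : A) :
    comp (ofDer hD) (ofDerSection hD) (proj_ofDerSection hD) (algebraMap A (ofDer hD).E a) = D a := by
  rw [algebraMap_ofDer, map_add, comp_section, comp_incl, zero_add]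

/-- `ofDer D` is trivial over `A'` as soon as `D` kills `A'`. -/
theorem isTrivialOver_ofDer (A' : Type w) [CommRing A'] [Algebra A' A] [Algebra A' C]
    [IsScalarTower A' A C] {D : A →+ L} (hD : IsLeibniz C D) (h0 : ∀ a, D (algebraMap A' A a) = 0) :
    (ofDer hD).IsTrivialOver A' := by
  rw [isTrivialOver_iff]
  refine ⟨ofDerSection hD, proj_ofDerSection hD, fun a => ?_⟩
  rw [algebraMap_ofDer, h0, map_zero, add_zero, ← IsScalarTower.algebraMap_apply]

end OfDer

section FromSection

variable {A : Type u} {C L : Type v} [CommRing A] [CommRing C] [Algebra A C] [AddCommGroup L]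
  [Module C L] (X : Ext A C L) (s : C →+* X.E) (hs : ∀ b, X.proj (s b) = b)

/-- The derivation `A → L` attached to an extension with a ring section. -/
noncomputable def der : A →+ L := (comp X s hs).comp (algebraMap A X.E).toAddMonoidHom

theorem der_apply (a : A) : der X s hs a = comp X s hs (algebraMap A X.E a) := rfl

theorem incl_der (a : A) : X.incl (der X s hs a) = algebraMap A X.E a - s (algebraMap A C a) := by
  rw [der_apply, incl_comp, X.proj.commutes]

theorem isLeibniz_der : IsLeibniz C (der X s hs) := fun a b => by
  rw [der_apply, der_apply, der_apply, map_mul, comp_mul, X.proj.commutes, X.proj.commutes]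

end FromSection

section Compare

variable {A : Type u} {C L : Type v} [CommRing A] [CommRing C] [Algebra A C] [AddCommGroup L]
  [Module C L] (X Y : Ext A C L) (s : C →+* X.E) (hs : ∀ b, X.proj (s b) = b)
  (t : C →+* Y.E) (ht : ∀ b, Y.proj (t b) = b)

/-- Two extensions with ring sections whose derivations agree are equivalent. -/
theorem exists_equiv_of_der_eq (h : ∀ a, der X s hs a = der Y t ht a) :
    ∃ e : X.Equiv Y, ∀ x, e.toAlgEquiv x = t (X.proj x) + Y.incl (comp X s hs x) := by
  let φ : X.E →ₐ[A] Y.E :=
    { toFun := fun x => t (X.proj x) + Y.incl (comp X s hs x)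
      map_one' := by rw [map_one, map_one, comp_one, map_zero, add_zero]
      map_mul' := fun x y => by
        rw [map_mul, map_mul, comp_mul, map_add, add_mul, mul_add, mul_add, incl_mul_incl, mul_incl,
          incl_mul, ht, ht, add_zero]
        abel
      map_zero' := by rw [map_zero, map_zero, map_zero, map_zero, add_zero]
      map_add' := fun x y => by
        rw [map_add, map_add, map_add, map_add]
        abel
      commutes' := fun a => by
        rw [← der_apply, h, incl_der, X.proj.commutes]
        abel }
  have hφ : ∀ x : X.E, φ x = t (X.proj x) + Y.incl (comp X s hs x) := fun _ => rfl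
  obtain ⟨e, he⟩ := nonempty_equiv_of_algHom X Y φ
    (fun x => by rw [hφ, map_add, proj_incl, add_zero, ht])
    (fun z => by rw [hφ, proj_incl, map_zero, zero_add, comp_incl])
  exact ⟨e, fun x => by rw [he, hφ]⟩

theorem der_ofDer {D : A →+ L} (hD : IsLeibniz C D) (a : A) :
    der (ofDer hD) (ofDerSection hD) (proj_ofDerSection hD) a = D a := comp_algebraMap_ofDer hD a

/-- An extension with a ring section is equivalent to the one attached to its derivation. -/
theorem nonempty_equiv_ofDer_der : Nonempty (X.Equiv (ofDer (isLeibniz_der X s hs))) := by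
  obtain ⟨e, -⟩ := exists_equiv_of_der_eq X (ofDer (isLeibniz_der X s hs)) s hs
    (ofDerSection (isLeibniz_der X s hs)) (proj_ofDerSection _) (fun a => (der_ofDer _ a).symm)
  exact ⟨e⟩

end Compare

end K105.ExalBasic
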