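import Groth.Prelude.Def_Exal3
import Groth.Agent.Ega41.K105.ExalBasic
import Mathlib.RingTheory.Kaehler.Basic
import Mathlib.LinearAlgebra.TensorProduct.Tower
import Mathlib.RingTheory.TensorProduct.IsBaseChangeHom

/-!
The characteristic homomorphism of an extension with a section over a smaller base ring.
-/

set_option autoImplicit false
set_option linter.unusedSectionVars false
universe u v w

open scoped TensorProduct

namespace K105.CharHom

open Exal K105.ExalBasic

theorem induction_tmul_D {A : Type u} {B C : Type v} [CommRing A] [CommRing B] [CommRing C]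
    [Algebra A B] [Algebra B C] {P : C ⊗[B] Ω[B⁄A] → Prop} (h0 : P 0)
    (hadd : ∀ x y, P x → P y → P (x + y))
    (h : ∀ (c : C) (b : B), P (c ⊗ₜ KaehlerDifferential.D A B b)) (z : C ⊗[B] Ω[B⁄A]) : P z := by
  induction z using TensorProduct.induction_on with
  | zero => exact h0
  | add x y hx hy => exact hadd x y hx hy
  | tmul c ω =>
    have hω : ω ∈ Submodule.span B (Set.range (KaehlerDifferential.D A B)) := by
      rw [KaehlerDifferential.span_range_derivation]; trivial
    induction hω using Submodule.span_induction generalizing c with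
    | mem ω hω => obtain ⟨b, rfl⟩ := hω; exact h c b
    | zero => rw [TensorProduct.tmul_zero]; exact h0
    | add x y _ _ hx hy => rw [TensorProduct.tmul_add]; exact hadd _ _ (hx c) (hy c)
    | smul b x _ hx => rw [← TensorProduct.smul_tmul]; exact hx (b • c)

section

variable (A : Type u) {B C L : Type v} [CommRing A] [CommRing B] [CommRing C] [Algebra A B]
  [Algebra B C] [Algebra A C] [IsScalarTower A B C] [AddCommGroup L] [Module C L]
  (X : Ext B C L)

/-- The class of an element of the middle ring under its `CharCarrier` name. -/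
def toCC : X.E →+* X.CharCarrier A := RingHom.id X.E

theorem algebraMap_toCC (x : X.E) : algebraMap (X.CharCarrier A) C (toCC A X x) = X.proj x := rfl

theorem deltaL_apply (z : L) : X.deltaL A z =
    (1 : C) ⊗ₜ[X.CharCarrier A] KaehlerDifferential.D A (X.CharCarrier A) (toCC A X (X.incl z)) := rfl

theorem toCC_algebraMap (b : B) : toCC A X (algebraMap B X.E b) = algebraMap B (X.CharCarrier A) b := rfl

theorem algebraMapA_eq (a : A) :
    algebraMap A (X.CharCarrier A) a = toCC A X (algebraMap B X.E (algebraMap A B a)) := rfl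

theorem baseChangeToMiddle_tmul_D (c : C) (b : B) :
    X.baseChangeToMiddle A (c ⊗ₜ KaehlerDifferential.D A B b) =
      c ⊗ₜ[X.CharCarrier A] KaehlerDifferential.D A (X.CharCarrier A) (toCC A X (algebraMap B X.E b)) := by
  rw [Ext.baseChangeToMiddle, TensorProduct.lift.tmul, LinearMap.mk₂_apply, KaehlerDifferential.map_D]
  rfl

theorem one_tmul_smul (x : X.E) (ω : Ω[X.CharCarrier A⁄A]) :
    (1 : C) ⊗ₜ[X.CharCarrier A] (toCC A X x • ω) = X.proj x • ((1 : C) ⊗ₜ[X.CharCarrier A] ω) := by
  rw [TensorProduct.tmul_smul, TensorProduct.smul_tmul', TensorProduct.smul_tmul', Algebra.smul_def,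
    algebraMap_toCC, smul_eq_mul]

/-- `deltaL` is linear. -/
theorem deltaL_smul (c : C) (z : L) : X.deltaL A (c • z) = c • X.deltaL A z := by
  obtain ⟨x, rfl⟩ := X.isExtension.proj_surjective c
  rw [deltaL_apply, deltaL_apply, ← mul_incl, map_mul, Derivation.leibniz, TensorProduct.tmul_add,
    one_tmul_smul, one_tmul_smul, proj_incl, zero_smul, add_zero]

variable (s : C →+* X.E) (hs : ∀ c, X.proj (s c) = c)
  (hsA : ∀ a, s (algebraMap A C a) = algebraMap B X.E (algebraMap A B a))

/-- The derivation `C → C ⊗_E Ω_{E/A}`, `c ↦ 1 ⊗ d(s c)`. -/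
noncomputable def secDer : Derivation A C (C ⊗[X.CharCarrier A] Ω[X.CharCarrier A⁄A]) :=
  Derivation.mk'
    { toFun := fun c => (1 : C) ⊗ₜ[X.CharCarrier A]
        KaehlerDifferential.D A (X.CharCarrier A) (toCC A X (s c))
      map_add' := fun c c' => by rw [map_add, map_add, map_add, TensorProduct.tmul_add]
      map_smul' := fun a c => by
        have h1 : toCC A X (s (a • c)) = a • toCC A X (s c) := by
          rw [Algebra.smul_def, Algebra.smul_def, map_mul, map_mul, hsA, algebraMapA_eq]
        rw [h1, Derivation.map_smul, RingHom.id_apply, TensorProduct.tmul_smul] }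
    (fun c c' => by
      have h1 : ∀ c c' : C, c • ((1 : C) ⊗ₜ[X.CharCarrier A]
          KaehlerDifferential.D A (X.CharCarrier A) (toCC A X (s c'))) = (1 : C) ⊗ₜ[X.CharCarrier A]
          (toCC A X (s c) • KaehlerDifferential.D A (X.CharCarrier A) (toCC A X (s c'))) := by
        intro c c'
        rw [one_tmul_smul, hs]
      change (1 : C) ⊗ₜ[X.CharCarrier A]
        KaehlerDifferential.D A (X.CharCarrier A) (toCC A X (s (c * c'))) =
        c • ((1 : C) ⊗ₜ[X.CharCarrier A]
          KaehlerDifferential.D A (X.CharCarrier A) (toCC A X (s c'))) +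
        c' • ((1 : C) ⊗ₜ[X.CharCarrier A]
          KaehlerDifferential.D A (X.CharCarrier A) (toCC A X (s c)))
      rw [h1, h1, ← TensorProduct.tmul_add, ← Derivation.leibniz, map_mul, map_mul])

theorem secDer_apply (c : C) : secDer A X s hs hsA c = (1 : C) ⊗ₜ[X.CharCarrier A]
    KaehlerDifferential.D A (X.CharCarrier A) (toCC A X (s c)) := rfl

/-- The map `Ω_{C/A} → C ⊗_E Ω_{E/A}` induced by a section. -/
noncomputable def secMap : Ω[C⁄A] →ₗ[C] C ⊗[X.CharCarrier A] Ω[X.CharCarrier A⁄A] :=
  (secDer A X s hs hsA).liftKaehlerDifferential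

theorem secMap_D (c : C) : secMap A X s hs hsA (KaehlerDifferential.D A C c) =
    (1 : C) ⊗ₜ[X.CharCarrier A] KaehlerDifferential.D A (X.CharCarrier A) (toCC A X (s c)) := by
  rw [secMap, Derivation.liftKaehlerDifferential_comp_D, secDer_apply]

include hs hsA

/-- The retraction of `deltaL` given by a section. -/
theorem exists_retraction :
    ∃ r : C ⊗[X.CharCarrier A] Ω[X.CharCarrier A⁄A] →ₗ[C] L,
      ∀ x : X.E, r ((1 : C) ⊗ₜ[X.CharCarrier A] KaehlerDifferential.D A (X.CharCarrier A) (toCC A X x)) =
        comp X s hs x := by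
  let _ : Module (X.CharCarrier A) L := Module.compHom L (algebraMap (X.CharCarrier A) C)
  let _ : Module A L := Module.compHom L (algebraMap A C)
  have h1 : ∀ (x : X.CharCarrier A) (z : L), x • z = algebraMap (X.CharCarrier A) C x • z := fun _ _ => rfl
  have h2 : ∀ (x : A) (z : L), x • z = algebraMap A C x • z := fun _ _ => rfl
  have : IsScalarTower (X.CharCarrier A) C L := ⟨fun x c z => by
    rw [h1, smul_smul, Algebra.smul_def]⟩
  have : IsScalarTower A C L := ⟨fun x c z => by
    rw [h2, smul_smul, Algebra.smul_def]⟩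
  have : IsScalarTower A (X.CharCarrier A) L := ⟨fun x c z => by
    rw [h2, h1, h1, smul_smul, Algebra.smul_def, map_mul, ← IsScalarTower.algebraMap_apply]⟩
  let δ : Derivation A (X.CharCarrier A) L := Derivation.mk'
    { toFun := fun x => comp X s hs x
      map_add' := fun x y => map_add (comp X s hs) x y
      map_smul' := fun a x => by
        rw [RingHom.id_apply, Algebra.smul_def, algebraMapA_eq]
        change comp X s hs (algebraMap B X.E (algebraMap A B a) * (show X.E from x)) = _
        rw [comp_mul, ← hsA, hs, comp_section, smul_zero, add_zero]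
        rfl }
    (fun x y => comp_mul X s hs x y)
  refine ⟨LinearMap.liftBaseChange C δ.liftKaehlerDifferential, fun x => ?_⟩
  rw [LinearMap.liftBaseChange_tmul, Derivation.liftKaehlerDifferential_comp_D, one_smul]
  rfl

/-- `deltaL` is injective for an extension with a section over `A`. -/
theorem deltaL_injective : Function.Injective (X.deltaL A) := by
  obtain ⟨r, hr⟩ := exists_retraction A X s hs hsA
  intro z z' h
  have h' := congrArg r h
  rwa [deltaL_apply, deltaL_apply, hr, hr, comp_incl, comp_incl] at h'

/-- The linear form `C ⊗_B Ω_{B/A} → L` attached to the derivation of an extension with a section. -/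
theorem exists_chi :
    ∃ χ : C ⊗[B] Ω[B⁄A] →ₗ[C] L, ∀ b : B, χ ((1 : C) ⊗ₜ KaehlerDifferential.D A B b) = der X s hs b := by
  let _ : Module B L := Module.compHom L (algebraMap B C)
  let _ : Module A L := Module.compHom L (algebraMap A C)
  have h1 : ∀ (x : B) (z : L), x • z = algebraMap B C x • z := fun _ _ => rfl
  have h2 : ∀ (x : A) (z : L), x • z = algebraMap A C x • z := fun _ _ => rfl
  have : IsScalarTower B C L := ⟨fun x c z => by
    rw [h1, smul_smul, Algebra.smul_def]⟩
  have : IsScalarTower A C L := ⟨fun x c z => by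
    rw [h2, smul_smul, Algebra.smul_def]⟩
  have : IsScalarTower A B L := ⟨fun x c z => by
    rw [h2, h1, h1, smul_smul, Algebra.smul_def, map_mul, ← IsScalarTower.algebraMap_apply]⟩
  let δ : Derivation A B L := Derivation.mk'
    { toFun := fun x => der X s hs x
      map_add' := fun x y => map_add (der X s hs) x y
      map_smul' := fun a x => by
        rw [RingHom.id_apply, Algebra.smul_def, isLeibniz_der X s hs, h2]
        have h3 : der X s hs (algebraMap A B a) = 0 := by
          apply X.isExtension.incl_injective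
          rw [incl_der, ← IsScalarTower.algebraMap_apply A B C, hsA, sub_self, map_zero]
        rw [h3, smul_zero, add_zero, ← IsScalarTower.algebraMap_apply A B C] }
    (fun x y => isLeibniz_der X s hs x y)
  refine ⟨LinearMap.liftBaseChange C δ.liftKaehlerDifferential, fun x => ?_⟩
  rw [LinearMap.liftBaseChange_tmul, Derivation.liftKaehlerDifferential_comp_D, one_smul]
  rfl

/-- The fundamental formula. -/
theorem baseChangeToMiddle_eq (χ : C ⊗[B] Ω[B⁄A] →ₗ[C] L)
    (hχ : ∀ b : B, χ ((1 : C) ⊗ₜ KaehlerDifferential.D A B b) = der X s hs b) (z : C ⊗[B] Ω[B⁄A]) :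
    X.baseChangeToMiddle A z =
      secMap A X s hs hsA (KaehlerDifferential.mapBaseChange A B C z) + X.deltaL A (χ z) := by
  induction z using induction_tmul_D with
  | h0 => rw [map_zero, map_zero, map_zero, map_zero, map_zero, add_zero]
  | hadd x y hx hy => rw [map_add, map_add, map_add, map_add, map_add, hx, hy]; abel
  | h c b =>
    have h1 : c ⊗ₜ[B] KaehlerDifferential.D A B b = c • ((1 : C) ⊗ₜ[B] KaehlerDifferential.D A B b) := by
      rw [TensorProduct.smul_tmul', smul_eq_mul, mul_one]
    rw [baseChangeToMiddle_tmul_D, KaehlerDifferential.mapBaseChange_tmul, map_smul,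
      KaehlerDifferential.map_D, secMap_D, h1, map_smul, hχ, deltaL_smul, deltaL_apply, ← smul_add,
      ← TensorProduct.tmul_add, ← map_add, ← map_add, incl_der, add_sub_cancel,
      TensorProduct.smul_tmul', smul_eq_mul, mul_one]

/-- Existence of the characteristic homomorphism: restriction of `χ` to the imperfection module. -/
theorem isCharHom_restrict (χ : C ⊗[B] Ω[B⁄A] →ₗ[C] L)
    (hχ : ∀ b : B, χ ((1 : C) ⊗ₜ KaehlerDifferential.D A B b) = der X s hs b) :
    X.IsCharHom A (χ ∘ₗ (EGA41.imperfection A B C).subtype) := by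
  intro z
  have hz : KaehlerDifferential.mapBaseChange A B C z = 0 := z.2
  rw [baseChangeToMiddle_eq A X s hs hsA χ hχ, hz, map_zero, zero_add]
  rfl

theorem eq_of_isCharHom (χ χ' : EGA41.imperfection A B C →ₗ[C] L) (h : X.IsCharHom A χ)
    (h' : X.IsCharHom A χ') : χ = χ' := by
  ext z
  exact deltaL_injective A X s hs hsA ((h z).trans (h' z).symm)

end

end K105.CharHom
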