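import Groth.Agent.Ega41.K105.CharHom
import Mathlib.RingTheory.Smooth.Basic

/-!
Classification of extensions by their characteristic homomorphism.
-/

set_option autoImplicit false
set_option linter.unusedSectionVars false
universe u v w

open scoped TensorProduct

namespace K105.CharHom2

open Exal K105.ExalBasic K105.CharHom

section ModSection

variable {A : Type u} {B L : Type v} [CommRing A] [CommRing B] [Algebra A B] [AddCommGroup L]
  [Module B L]

/-- Changing a section by a derivation. -/
def modSection (X : Ext A B L) (s : B →+* X.E) (hs : ∀ b, X.proj (s b) = b) (D : B →+ L)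
    (hD : ∀ a b, D (a * b) = a • D b + b • D a) : B →+* X.E where
  toFun b := s b + X.incl (D b)
  map_zero' := by rw [map_zero, map_zero, map_zero, add_zero]
  map_one' := by
    have h := hD 1 1
    rw [mul_one, one_smul] at h
    rw [left_eq_add.1 h, map_zero, add_zero, map_one]
  map_add' a b := by rw [map_add, map_add, map_add]; abel
  map_mul' a b := by
    rw [hD, map_mul, map_add, add_mul, mul_add, mul_add, mul_incl, incl_mul, incl_mul_incl, hs, hs,
      add_zero]
    abel

theorem modSection_apply (X : Ext A B L) (s : B →+* X.E) (hs : ∀ b, X.proj (s b) = b) (D : B →+ L)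
    (hD : ∀ a b, D (a * b) = a • D b + b • D a) (b : B) :
    modSection X s hs D hD b = s b + X.incl (D b) := rfl

theorem proj_modSection (X : Ext A B L) (s : B →+* X.E) (hs : ∀ b, X.proj (s b) = b) (D : B →+ L)
    (hD : ∀ a b, D (a * b) = a • D b + b • D a) (b : B) :
    X.proj (modSection X s hs D hD b) = b := by
  rw [modSection_apply, map_add, proj_incl, add_zero, hs]

theorem der_modSection (X : Ext A B L) (s : B →+* X.E) (hs : ∀ b, X.proj (s b) = b) (D : B →+ L)
    (hD : ∀ a b, D (a * b) = a • D b + b • D a) (a : A) :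
    der X (modSection X s hs D hD) (proj_modSection X s hs D hD) a =
      der X s hs a - D (algebraMap A B a) := by
  apply X.isExtension.incl_injective
  rw [incl_der, modSection_apply, map_sub, incl_der]
  abel

theorem isTrivial_of_formallySmooth [Algebra.FormallySmooth A B] (X : Ext A B L) : X.IsTrivial := by
  have hker : IsNilpotent (RingHom.ker (X.proj : X.E →+* B)) := by
    refine ⟨2, ?_⟩
    rw [pow_two, Submodule.zero_eq_bot, eq_bot_iff, Ideal.mul_le]
    intro x hx y hy
    obtain ⟨z, rfl⟩ := (X.isExtension.exact x).1 hx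
    obtain ⟨z', rfl⟩ := (X.isExtension.exact y).1 hy
    rw [incl_mul_incl]
    exact zero_mem _
  exact ⟨Algebra.FormallySmooth.liftOfSurjective (AlgHom.id A B) X.proj
    X.isExtension.proj_surjective hker, fun b =>
    Algebra.FormallySmooth.liftOfSurjective_apply (AlgHom.id A B) X.proj
      X.isExtension.proj_surjective hker b⟩

end ModSection

section

variable (A : Type u) {B C L : Type v} [CommRing A] [CommRing B] [CommRing C] [Algebra A B]
  [Algebra B C] [Algebra A C] [IsScalarTower A B C] [AddCommGroup L] [Module C L]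

/-- Linear forms on `C ⊗_B Ω_{B/A}` killing the imperfection module extend to `Ω_{C/A}`. -/
def Ext1 (B C L : Type v) [CommRing B] [CommRing C] [Algebra A B]
  [Algebra B C] [Algebra A C] [IsScalarTower A B C] [AddCommGroup L] [Module C L] : Prop :=
  ∀ ψ : C ⊗[B] Ω[B⁄A] →ₗ[C] L, (∀ z ∈ EGA41.imperfection A B C, ψ z = 0) →
    ∃ θ : Ω[C⁄A] →ₗ[C] L, ∀ z, θ (KaehlerDifferential.mapBaseChange A B C z) = ψ z

/-- Linear forms on the imperfection module extend to `C ⊗_B Ω_{B/A}`. -/
def Ext2 (B C L : Type v) [CommRing B] [CommRing C] [Algebra A B]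
  [Algebra B C] [Algebra A C] [IsScalarTower A B C] [AddCommGroup L] [Module C L] : Prop :=
  ∀ χ : EGA41.imperfection A B C →ₗ[C] L,
    ∃ χ' : C ⊗[B] Ω[B⁄A] →ₗ[C] L, χ' ∘ₗ (EGA41.imperfection A B C).subtype = χ

/-- Injectivity on classes. -/
theorem nonempty_equiv (hE : Ext1 A B C L) (X Y : Ext B C L) (hX : X.IsTrivialOver A)
    (hY : Y.IsTrivialOver A) (χ : EGA41.imperfection A B C →ₗ[C] L) (hXχ : X.IsCharHom A χ)
    (hYχ : Y.IsCharHom A χ) : Nonempty (X.Equiv Y) := by
  obtain ⟨s, hs, hsA⟩ := (isTrivialOver_iff A X).1 hX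
  obtain ⟨t, ht, htA⟩ := (isTrivialOver_iff A Y).1 hY
  obtain ⟨χX, hχX⟩ := exists_chi A X s hs hsA
  obtain ⟨χY, hχY⟩ := exists_chi A Y t ht htA
  have h1 := eq_of_isCharHom A X s hs hsA _ _ (isCharHom_restrict A X s hs hsA χX hχX) hXχ
  have h2 := eq_of_isCharHom A Y t ht htA _ _ (isCharHom_restrict A Y t ht htA χY hχY) hYχ
  obtain ⟨θ, hθ⟩ := hE (χY - χX) (fun z hz => by
    rw [LinearMap.sub_apply, sub_eq_zero]
    have h3 := LinearMap.congr_fun (h2.trans h1.symm) ⟨z, hz⟩
    exact h3)
  let D : C →+ L := (θ.toAddMonoidHom).comp (KaehlerDifferential.D A C : C →ₗ[A] Ω[C⁄A]).toAddMonoidHom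
  have hDa : ∀ c, D c = θ (KaehlerDifferential.D A C c) := fun _ => rfl
  have hD : ∀ a b, D (a * b) = a • D b + b • D a := fun a b => by
    rw [hDa, hDa, hDa, Derivation.leibniz, map_add, map_smul, map_smul]
  obtain ⟨e, -⟩ := exists_equiv_of_der_eq X Y s hs (modSection Y t ht D hD)
    (proj_modSection Y t ht D hD) (fun b => by
      rw [der_modSection, ← hχX, ← hχY, hDa]
      have h4 := hθ ((1 : C) ⊗ₜ KaehlerDifferential.D A B b)
      rw [KaehlerDifferential.mapBaseChange_tmul, one_smul, KaehlerDifferential.map_D,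
        LinearMap.sub_apply] at h4
      rw [h4]
      abel)
  exact ⟨e⟩

/-- Surjectivity on classes. -/
theorem exists_isCharHom (hE : Ext2 A B C L) (χ : EGA41.imperfection A B C →ₗ[C] L) :
    ∃ X : Ext B C L, X.IsTrivialOver A ∧ X.IsCharHom A χ := by
  obtain ⟨χ', hχ'⟩ := hE χ
  let D : B →+ L := (χ'.toAddMonoidHom).comp
    { toFun := fun b => (1 : C) ⊗ₜ[B] KaehlerDifferential.D A B b
      map_zero' := by rw [map_zero, TensorProduct.tmul_zero]
      map_add' := fun a b => by rw [map_add, TensorProduct.tmul_add] }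
  have hDa : ∀ b, D b = χ' ((1 : C) ⊗ₜ[B] KaehlerDifferential.D A B b) := fun _ => rfl
  have hsm : ∀ (b : B) (ω : Ω[B⁄A]), (1 : C) ⊗ₜ[B] (b • ω) = algebraMap B C b • ((1 : C) ⊗ₜ[B] ω) := by
    intro b ω
    rw [TensorProduct.tmul_smul, algebraMap_smul]
  have hD : IsLeibniz C D := fun a b => by
    rw [hDa, hDa, hDa, Derivation.leibniz, TensorProduct.tmul_add, hsm, hsm, map_add, map_smul, map_smul]
  have hDA : ∀ a : A, D (algebraMap A B a) = 0 := fun a => by
    rw [hDa, Derivation.map_algebraMap, TensorProduct.tmul_zero, map_zero]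
  have hsA : ∀ a, ofDerSection hD (algebraMap A C a) =
      algebraMap B (ofDer hD).E (algebraMap A B a) := fun a => by
    rw [algebraMap_ofDer, hDA, map_zero, add_zero, ← IsScalarTower.algebraMap_apply]
  refine ⟨ofDer hD, isTrivialOver_ofDer A hD hDA, ?_⟩
  rw [← hχ']
  exact isCharHom_restrict A (ofDer hD) (ofDerSection hD) (proj_ofDerSection hD) hsA χ'
    (fun b => by rw [der_ofDer, hDa])

variable {A}

/-- A partial inverse of `C ⊗_B Ω_{B/A} → Ω_{C/A}` gives both extension properties. -/
theorem ext1_of_partialInverse (l : Ω[C⁄A] →ₗ[C] C ⊗[B] Ω[B⁄A])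
    (hl : ∀ z, KaehlerDifferential.mapBaseChange A B C (l (KaehlerDifferential.mapBaseChange A B C z)) =
      KaehlerDifferential.mapBaseChange A B C z) : Ext1 A B C L := by
  intro ψ hψ
  refine ⟨ψ ∘ₗ l, fun z => ?_⟩
  have h1 : ψ (l (KaehlerDifferential.mapBaseChange A B C z) - z) = 0 := by
    apply hψ
    change KaehlerDifferential.mapBaseChange A B C _ = 0
    rw [map_sub, hl, sub_self]
  rw [map_sub, sub_eq_zero] at h1
  exact h1

theorem ext2_of_partialInverse (l : Ω[C⁄A] →ₗ[C] C ⊗[B] Ω[B⁄A])
    (hl : ∀ z, KaehlerDifferential.mapBaseChange A B C (l (KaehlerDifferential.mapBaseChange A B C z)) =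
      KaehlerDifferential.mapBaseChange A B C z) : Ext2 A B C L := by
  intro χ
  let r : C ⊗[B] Ω[B⁄A] →ₗ[C] EGA41.imperfection A B C :=
    LinearMap.codRestrict (EGA41.imperfection A B C)
      (LinearMap.id - l ∘ₗ KaehlerDifferential.mapBaseChange A B C) (fun z => by
        change KaehlerDifferential.mapBaseChange A B C
          (z - l (KaehlerDifferential.mapBaseChange A B C z)) = 0
        rw [map_sub, hl, sub_self])
  refine ⟨χ ∘ₗ r, ?_⟩
  ext z
  have hz : KaehlerDifferential.mapBaseChange A B C z = 0 := z.2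
  have h1 : r z = z := by
    apply Subtype.ext
    change (z : C ⊗[B] Ω[B⁄A]) - l (KaehlerDifferential.mapBaseChange A B C z) = z
    rw [hz, map_zero, sub_zero]
  change χ (r z) = χ z
  rw [h1]

/-- The partial inverse exists when `Ω_{C/A} → Ω_{C/B}` has a section and `Ω_{C/A}` is projective. -/
theorem exists_partialInverse [Module.Projective C Ω[C⁄A]] (s : Ω[C⁄B] →ₗ[C] Ω[C⁄A])
    (hs : ∀ ω, KaehlerDifferential.map A B C C (s ω) = ω) :
    ∃ l : Ω[C⁄A] →ₗ[C] C ⊗[B] Ω[B⁄A], ∀ z, KaehlerDifferential.mapBaseChange A B C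
      (l (KaehlerDifferential.mapBaseChange A B C z)) = KaehlerDifferential.mapBaseChange A B C z := by
  let m := KaehlerDifferential.mapBaseChange A B C
  have hex := KaehlerDifferential.exact_mapBaseChange_map A B C
  let π : Ω[C⁄A] →ₗ[C] LinearMap.range m :=
    LinearMap.codRestrict (LinearMap.range m) (LinearMap.id - s ∘ₗ KaehlerDifferential.map A B C C)
      (fun ω => by
        have : KaehlerDifferential.map A B C C
            ((LinearMap.id - s ∘ₗ KaehlerDifferential.map A B C C : Ω[C⁄A] →ₗ[C] Ω[C⁄A]) ω) = 0 := by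
          rw [LinearMap.sub_apply, LinearMap.id_apply, LinearMap.comp_apply, map_sub, hs, sub_self]
        exact (hex _).1 this)
  obtain ⟨l, hl⟩ := Module.projective_lifting_property m.rangeRestrict π m.surjective_rangeRestrict
  refine ⟨l, fun z => ?_⟩
  have h1 := congrArg Subtype.val (LinearMap.congr_fun hl (m z))
  have h2 : m (l (m z)) = m z - s (KaehlerDifferential.map A B C C (m z)) := h1
  rw [hex.apply_apply_eq_zero, map_zero, sub_zero] at h2
  exact h2

end

end K105.CharHom2
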