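import Groth.Agent.Ega4fib.H121.ProConsBasic
import Mathlib.Topology.Spectral.ConstructibleTopology
import Mathlib.Topology.Spectral.Prespectral
import Mathlib.Topology.Sober
import Mathlib.Topology.Compactness.LocallyCompact
import Mathlib.Topology.Separation.Hausdorff

/-!
The constructible topology of a locally spectral quasi-separated space.
-/

set_option autoImplicit false
open Topology Set

namespace K105.Constr

open Groth.Agent.Ega4fib.H121.ProConsBasic

section

variable {X : Type*} [TopologicalSpace X]

/-- Constructible topology, as a compactness statement for compact opens. -/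
theorem isCompact_constr [PrespectralSpace X] [QuasiSeparatedSpace X] [QuasiSober X] {V : Set X}
    (hVo : IsOpen V) (hVc : IsCompact V) : @IsCompact X (constructibleTopology X) V := by
  have : CompactSpace V := isCompact_iff_compactSpace.1 hVc
  have : PrespectralSpace V := hVo.isOpenEmbedding_subtypeVal.prespectralSpace
  have : QuasiSeparatedSpace V := hVo.isOpenEmbedding_subtypeVal.quasiSeparatedSpace
  have : QuasiSober V := hVo.isOpenEmbedding_subtypeVal.quasiSober
  let f : WithConstructibleTopology V → X := fun v => (WithTopology.ofTopology v : V)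
  have hf : @Continuous _ _ _ (constructibleTopology X) f := by
    refine continuous_generateFrom_iff.2 fun s hs => ?_
    rw [WithConstructibleTopology.isOpen_iff]
    change IsOpen[constructibleTopology V] (Subtype.val ⁻¹' s)
    rcases hs with ⟨hso, hsc⟩ | ⟨hso, hsc⟩
    · apply IsCompact.isOpen_constructibleTopology_of_isOpen
      · rw [Subtype.isCompact_iff, Subtype.image_preimage_coe]
        exact QuasiSeparatedSpace.inter_isCompact V s hVo hVc hso hsc
      · exact hso.preimage continuous_subtype_val
    · apply IsCompact.isOpen_constructibleTopology_of_isClosed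
      · rw [← preimage_compl, Subtype.isCompact_iff, Subtype.image_preimage_coe]
        exact QuasiSeparatedSpace.inter_isCompact V sᶜ hVo hVc hso.isOpen_compl hsc
      · exact hso.preimage continuous_subtype_val
  have h1 := @isCompact_range _ _ _ (constructibleTopology X) _ f hf
  have h2 : range f = V := by
    ext x
    constructor
    · rintro ⟨v, rfl⟩
      exact (WithTopology.ofTopology v : V).2
    · intro hx
      exact ⟨WithTopology.toTopology _ ⟨x, hx⟩, rfl⟩
  rwa [h2] at h1

/-- Compact open sets are clopen for the constructible topology. -/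
theorem isOpen_constr {V : Set X} (hVo : IsOpen V) (hVc : IsCompact V) :
    IsOpen[constructibleTopology X] V := hVc.isOpen_constructibleTopology_of_isOpen hVo

theorem isOpen_constr_compl {V : Set X} (hVo : IsOpen V) (hVc : IsCompact V) :
    IsOpen[constructibleTopology X] Vᶜ :=
  IsCompact.isOpen_constructibleTopology_of_isClosed (by rwa [compl_compl]) hVo.isClosed_compl

/-- Two distinct points are separated by a compact open set. -/
theorem exists_sep [PrespectralSpace X] [T0Space X] {x y : X} (hxy : x ≠ y) :
    ∃ V : Set X, IsOpen V ∧ IsCompact V ∧ ((x ∈ V ∧ y ∉ V) ∨ (y ∈ V ∧ x ∉ V)) := by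
  have hbas := PrespectralSpace.isTopologicalBasis (X := X)
  obtain ⟨U, hU, hxU⟩ := exists_isOpen_xor_mem hxy
  rcases hxU with ⟨h1, h2⟩ | ⟨h1, h2⟩
  · obtain ⟨V, ⟨hVo, hVc⟩, hxV, hVU⟩ := hbas.exists_subset_of_mem_open h1 hU
    exact ⟨V, hVo, hVc, Or.inl ⟨hxV, fun h => h2 (hVU h)⟩⟩
  · obtain ⟨V, ⟨hVo, hVc⟩, hxV, hVU⟩ := hbas.exists_subset_of_mem_open h1 hU
    exact ⟨V, hVo, hVc, Or.inr ⟨hxV, fun h => h2 (hVU h)⟩⟩

theorem t2Space_constr [PrespectralSpace X] [T0Space X] : @T2Space X (constructibleTopology X) := by
  refine @T2Space.mk X (constructibleTopology X) fun x y hxy => ?_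
  obtain ⟨V, hVo, hVc, h⟩ := exists_sep hxy
  rcases h with ⟨h1, h2⟩ | ⟨h1, h2⟩
  · exact ⟨V, Vᶜ, isOpen_constr hVo hVc, isOpen_constr_compl hVo hVc, h1, h2, disjoint_compl_right⟩
  · exact ⟨Vᶜ, V, isOpen_constr_compl hVo hVc, isOpen_constr hVo hVc, h2, h1, disjoint_compl_left⟩

theorem totallySeparated_constr [PrespectralSpace X] [T0Space X] :
    @TotallySeparatedSpace X (constructibleTopology X) := by
  refine @TotallySeparatedSpace.mk X (constructibleTopology X) fun x _ y _ hxy => ?_
  obtain ⟨V, hVo, hVc, h⟩ := exists_sep hxy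
  rcases h with ⟨h1, h2⟩ | ⟨h1, h2⟩
  · exact ⟨V, Vᶜ, isOpen_constr hVo hVc, isOpen_constr_compl hVo hVc, h1, h2, by simp,
      disjoint_compl_right⟩
  · exact ⟨Vᶜ, V, isOpen_constr_compl hVo hVc, isOpen_constr hVo hVc, h2, h1, by simp,
      disjoint_compl_left⟩

theorem weaklyLocallyCompact_constr [PrespectralSpace X] [QuasiSeparatedSpace X] [QuasiSober X] :
    @WeaklyLocallyCompactSpace X (constructibleTopology X) := by
  refine @WeaklyLocallyCompactSpace.mk X (constructibleTopology X) fun x => ?_
  obtain ⟨V, ⟨hVo, hVc⟩, hxV, -⟩ := (PrespectralSpace.isTopologicalBasis (X := X)).exists_subset_of_mem_open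
    (mem_univ x) isOpen_univ
  exact ⟨V, isCompact_constr hVo hVc,
    @IsOpen.mem_nhds X (constructibleTopology X) x V (isOpen_constr hVo hVc) hxV⟩

/-- Clopen for the constructible topology inside a compact open: constructible. -/
theorem isConstructible_inter_of_clopen [PrespectralSpace X] [QuasiSeparatedSpace X] [QuasiSober X]
    {E : Set X} (hEo : IsOpen[constructibleTopology X] E) (hEc : IsClosed[constructibleTopology X] E)
    {V : Set X} (hVo : IsOpen V) (hVc : IsCompact V) : IsConstructible (E ∩ V) := by
  have h1 : @IsCompact X (constructibleTopology X) (V ∩ E) :=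
    @IsCompact.inter_right X (constructibleTopology X) V E (isCompact_constr hVo hVc) hEc
  have h2 : IsOpen[constructibleTopology X] (V ∩ E) :=
    @IsOpen.inter X (constructibleTopology X) V E (isOpen_constr hVo hVc) hEo
  rw [inter_comm]
  have h3 := isOpen_constructibleTopology_iff.1 h2
  choose! S hS hxS hSE using h3
  obtain ⟨t, ht1, ht2⟩ := @IsCompact.elim_nhds_subcover X (constructibleTopology X) (V ∩ E) h1 S
    (fun x hx => @IsOpen.mem_nhds X (constructibleTopology X) x (S x)
      (isOpen_isClosed_constructibleTopology (hS x hx)).1 (hxS x hx))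
  have h4 : V ∩ E = ⋃ x ∈ t, S x := by
    apply subset_antisymm ht2
    exact iUnion₂_subset fun x hx => hSE x (ht1 x hx)
  rw [h4]
  exact IsConstructible.biUnion t.finite_toSet fun x hx => hS x (ht1 x hx)

theorem isLocallyConstructible_iff [PrespectralSpace X] [QuasiSeparatedSpace X] [QuasiSober X]
    {E : Set X} : IsLocallyConstructible E ↔
      (IsOpen[constructibleTopology X] E ∧ IsClosed[constructibleTopology X] E) := by
  constructor
  · intro hE
    have key : ∀ F : Set X, IsLocallyConstructible F → IsOpen[constructibleTopology X] F := by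
      intro F hF
      rw [isOpen_constructibleTopology_iff]
      intro x hx
      obtain ⟨V, ⟨hVo, hVc⟩, hxV, -⟩ :=
        (PrespectralSpace.isTopologicalBasis (X := X)).exists_subset_of_mem_open
          (mem_univ x) isOpen_univ
      exact ⟨F ∩ V, hF.inter_of_isOpen_isCompact hVo hVc, ⟨hx, hxV⟩, inter_subset_left⟩
    exact ⟨key E hE, isOpen_compl_iff'.1 (key _ (isLocallyConstructible_compl hE))⟩
  · rintro ⟨hEo, hEc⟩ x
    obtain ⟨V, ⟨hVo, hVc⟩, hxV, -⟩ :=
      (PrespectralSpace.isTopologicalBasis (X := X)).exists_subset_of_mem_open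
        (mem_univ x) isOpen_univ
    refine ⟨V, hVo.mem_nhds hxV, hVo, ?_⟩
    have h := isConstructible_inter_of_clopen hEo hEc hVo hVc
    have h2 := h.preimage_of_isOpenEmbedding hVo.isOpenEmbedding_subtypeVal
    rwa [Subtype.preimage_coe_inter_self] at h2

end

end K105.Constr
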