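import Groth.Agent.Ega41.K105.CharHom
import Mathlib.RingTheory.Ideal.Quotient.Operations

/-!
The two maps between `C ⊗_B Ω_{B/Λ}` and `C ⊗_E Ω_{E/Λ}` for `E = B / K²`, `C = B / K`.
-/

set_option autoImplicit false
set_option linter.unusedSectionVars false
universe u v w

open scoped TensorProduct

namespace K105.InfChar

open Exal K105.ExalBasic K105.CharHom

variable {Λ : Type u} {A B : Type v} [CommRing Λ]
    [CommRing A] [CommRing B] [Algebra Λ A] [Algebra Λ B] [Algebra A B] [IsScalarTower Λ A B] (K : Ideal B)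

/-- The extension `B / K²` as an `A`-extension. -/
noncomputable abbrev XK (A : Type v) [CommRing A] [Algebra A B] (K : Ideal B) :
    Ext A (B ⧸ K) K.Cotangent := (Ext.infinitesimal K).restrictBase A

/-- The projection `B → B / K²`. -/
def mkE (A : Type v) [CommRing A] [Algebra A B] (K : Ideal B) : B →+* (XK A K).E :=
  (Ideal.Quotient.mk (K ^ 2) : B →+* B ⧸ K ^ 2)

theorem mkE_surjective : Function.Surjective (mkE A K) := Ideal.Quotient.mk_surjective

theorem proj_mkE (x : B) : (XK A K).proj (mkE A K x) = Ideal.Quotient.mk K x := rfl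

theorem algebraMap_mkE (a : A) : algebraMap A (XK A K).E a = mkE A K (algebraMap A B a) := rfl

theorem incl_toCotangent (x : K) : (XK A K).incl (K.toCotangent x) = mkE A K x := rfl

theorem mkE_eq_iff (x y : B) : mkE A K x = mkE A K y ↔ x - y ∈ K ^ 2 := Ideal.Quotient.eq

theorem tmul_smul_eq (b : B) (ω : Ω[B⁄Λ]) :
    (1 : B ⧸ K) ⊗ₜ[B] (b • ω) = Ideal.Quotient.mk K b • ((1 : B ⧸ K) ⊗ₜ[B] ω) := by
  rw [TensorProduct.tmul_smul, TensorProduct.smul_tmul', TensorProduct.smul_tmul',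
    Algebra.smul_def, smul_eq_mul]
  rfl

theorem tmul_D_eq_zero (x : B) (hx : x ∈ K ^ 2) :
    (1 : B ⧸ K) ⊗ₜ[B] KaehlerDifferential.D Λ B x = 0 := by
  rw [pow_two] at hx
  refine Submodule.mul_induction_on hx (fun a ha b hb => ?_) (fun a b ha hb => ?_)
  · rw [Derivation.leibniz, TensorProduct.tmul_add, tmul_smul_eq, tmul_smul_eq,
      Ideal.Quotient.eq_zero_iff_mem.2 ha, Ideal.Quotient.eq_zero_iff_mem.2 hb, zero_smul, zero_smul,
      add_zero]
  · rw [map_add, TensorProduct.tmul_add, ha, hb, add_zero]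

theorem tmul_D_congr (x y : B) (h : mkE A K x = mkE A K y) :
    (1 : B ⧸ K) ⊗ₜ[B] KaehlerDifferential.D Λ B x = (1 : B ⧸ K) ⊗ₜ[B] KaehlerDifferential.D Λ B y := by
  have := tmul_D_eq_zero (Λ := Λ) K (x - y) ((mkE_eq_iff K x y).1 h)
  rwa [map_sub, TensorProduct.tmul_sub, sub_eq_zero] at this

/-- `ρ : C ⊗_E Ω_{E/Λ} → C ⊗_B Ω_{B/Λ}`, `1 ⊗ d(x mod K²) ↦ 1 ⊗ dx`. -/
theorem exists_rho :
    ∃ ρ : (B ⧸ K) ⊗[(XK A K).CharCarrier Λ] Ω[(XK A K).CharCarrier Λ⁄Λ] →ₗ[B ⧸ K]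
        (B ⧸ K) ⊗[B] Ω[B⁄Λ],
      ∀ x : B, ρ ((1 : B ⧸ K) ⊗ₜ[(XK A K).CharCarrier Λ]
        KaehlerDifferential.D Λ ((XK A K).CharCarrier Λ) (toCC Λ (XK A K) (mkE A K x))) =
          (1 : B ⧸ K) ⊗ₜ[B] KaehlerDifferential.D Λ B x := by
  have h1 : ∀ (x : (XK A K).CharCarrier Λ) (z : (B ⧸ K) ⊗[B] Ω[B⁄Λ]),
    x • z = algebraMap ((XK A K).CharCarrier Λ) (B ⧸ K) x • z := fun x z =>
      (algebraMap_smul (B ⧸ K) x z).symm
  let t : (XK A K).E → B := Function.surjInv (mkE_surjective K)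
  have ht : ∀ e, mkE A K (t e) = e := Function.surjInv_eq (mkE_surjective K)
  let d : (XK A K).E → (B ⧸ K) ⊗[B] Ω[B⁄Λ] := fun e => (1 : B ⧸ K) ⊗ₜ[B] KaehlerDifferential.D Λ B (t e)
  have hd : ∀ x, d (mkE A K x) = (1 : B ⧸ K) ⊗ₜ[B] KaehlerDifferential.D Λ B x := fun x =>
    tmul_D_congr (A := A) K _ _ (ht _)
  have hadd : ∀ x y, d (x + y) = d x + d y := fun x y => by
    obtain ⟨x, rfl⟩ := mkE_surjective K x
    obtain ⟨y, rfl⟩ := mkE_surjective K y
    rw [← map_add, hd, hd, hd, map_add, TensorProduct.tmul_add]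
  have hmul : ∀ x y, d (x * y) = (XK A K).proj x • d y + (XK A K).proj y • d x := fun x y => by
    obtain ⟨x, rfl⟩ := mkE_surjective K x
    obtain ⟨y, rfl⟩ := mkE_surjective K y
    rw [← map_mul, hd, hd, hd, Derivation.leibniz, TensorProduct.tmul_add, tmul_smul_eq, tmul_smul_eq,
      proj_mkE, proj_mkE]
  have hΛ : ∀ a : Λ, d (algebraMap A (XK A K).E (algebraMap Λ A a)) = 0 := fun a => by
    rw [algebraMap_mkE, hd, ← IsScalarTower.algebraMap_apply, Derivation.map_algebraMap,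
      TensorProduct.tmul_zero]
  let δ : Derivation Λ ((XK A K).CharCarrier Λ) ((B ⧸ K) ⊗[B] Ω[B⁄Λ]) := Derivation.mk'
    { toFun := d
      map_add' := hadd
      map_smul' := fun a x => by
        rw [RingHom.id_apply, Algebra.smul_def, algebraMapA_eq]
        change d (algebraMap A (XK A K).E (algebraMap Λ A a) * (show (XK A K).E from x)) = _
        rw [hmul, hΛ, smul_zero, add_zero, (XK A K).proj.commutes, ← IsScalarTower.algebraMap_apply Λ A (B ⧸ K),
          algebraMap_smul] }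
    (fun x y => by
      rw [h1, h1]
      exact hmul x y)
  refine ⟨LinearMap.liftBaseChange (B ⧸ K) δ.liftKaehlerDifferential, fun x => ?_⟩
  rw [LinearMap.liftBaseChange_tmul, Derivation.liftKaehlerDifferential_comp_D, one_smul]
  exact hd x

/-- `σ : C ⊗_B Ω_{B/Λ} → C ⊗_E Ω_{E/Λ}`, `1 ⊗ dx ↦ 1 ⊗ d(x mod K²)`. -/
theorem exists_sigma :
    ∃ σ : (B ⧸ K) ⊗[B] Ω[B⁄Λ] →ₗ[B ⧸ K]
        (B ⧸ K) ⊗[(XK A K).CharCarrier Λ] Ω[(XK A K).CharCarrier Λ⁄Λ],
      ∀ x : B, σ ((1 : B ⧸ K) ⊗ₜ[B] KaehlerDifferential.D Λ B x) =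
        (1 : B ⧸ K) ⊗ₜ[(XK A K).CharCarrier Λ]
        KaehlerDifferential.D Λ ((XK A K).CharCarrier Λ) (toCC Λ (XK A K) (mkE A K x)) := by
  have h1 : ∀ (x : B) (z : (B ⧸ K) ⊗[(XK A K).CharCarrier Λ] Ω[(XK A K).CharCarrier Λ⁄Λ]),
    x • z = Ideal.Quotient.mk K x • z := fun x z => (algebraMap_smul (B ⧸ K) x z).symm
  let δ : Derivation Λ B ((B ⧸ K) ⊗[(XK A K).CharCarrier Λ] Ω[(XK A K).CharCarrier Λ⁄Λ]) := Derivation.mk'
    { toFun := fun x => (1 : B ⧸ K) ⊗ₜ[(XK A K).CharCarrier Λ]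
        KaehlerDifferential.D Λ ((XK A K).CharCarrier Λ) (toCC Λ (XK A K) (mkE A K x))
      map_add' := fun x y => by rw [map_add, map_add, map_add, TensorProduct.tmul_add]
      map_smul' := fun a x => by
        rw [RingHom.id_apply]
        have h2 : toCC Λ (XK A K) (mkE A K (a • x)) = a • toCC Λ (XK A K) (mkE A K x) := by
          rw [Algebra.smul_def, Algebra.smul_def, map_mul, map_mul, algebraMapA_eq, algebraMap_mkE,
            ← IsScalarTower.algebraMap_apply]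
        rw [h2, Derivation.map_smul, TensorProduct.tmul_smul] }
    (fun x y => by
      rw [h1, h1]
      change (1 : B ⧸ K) ⊗ₜ[(XK A K).CharCarrier Λ]
        KaehlerDifferential.D Λ ((XK A K).CharCarrier Λ) (toCC Λ (XK A K) (mkE A K (x * y))) =
        Ideal.Quotient.mk K x • ((1 : B ⧸ K) ⊗ₜ[(XK A K).CharCarrier Λ]
        KaehlerDifferential.D Λ ((XK A K).CharCarrier Λ) (toCC Λ (XK A K) (mkE A K y))) +
        Ideal.Quotient.mk K y • ((1 : B ⧸ K) ⊗ₜ[(XK A K).CharCarrier Λ]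
        KaehlerDifferential.D Λ ((XK A K).CharCarrier Λ) (toCC Λ (XK A K) (mkE A K x)))
      rw [← proj_mkE (A := A), ← proj_mkE (A := A), ← one_tmul_smul, ← one_tmul_smul, map_mul, map_mul,
        Derivation.leibniz, TensorProduct.tmul_add])
  refine ⟨LinearMap.liftBaseChange (B ⧸ K) δ.liftKaehlerDifferential, fun x => ?_⟩
  rw [LinearMap.liftBaseChange_tmul, Derivation.liftKaehlerDifferential_comp_D, one_smul]
  rfl

end K105.InfChar
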