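import Groth.Agent.Ega41.K105.CharHom
import Mathlib.RingTheory.Kaehler.Basic
import Mathlib.LinearAlgebra.TensorProduct.RightExactness
import Mathlib.LinearAlgebra.TensorProduct.Tower

/-!
Differentials in a tower `R → A → B → C`, with coefficients in `C`.
-/

set_option autoImplicit false
set_option linter.unusedSectionVars false
universe u₀ u₁ u

open scoped TensorProduct

namespace K105.KTower

open K105.CharHom

section

theorem induction_tmul_D' {A B C : Type*} [CommRing A] [CommRing B] [CommRing C]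
    [Algebra A B] [Algebra B C] {P : C ⊗[B] Ω[B⁄A] → Prop} (h0 : P 0)
    (hadd : ∀ x y, P x → P y → P (x + y))
    (h : ∀ (c : C) (b : B), P (c ⊗ₜ KaehlerDifferential.D A B b)) (z : C ⊗[B] Ω[B⁄A]) : P z := by
  induction z using TensorProduct.induction_on with
  | zero => exact h0
  | add x y hx hy => exact hadd x y hx hy
  | tmul c ω =>
    have hω : ω ∈ Submodule.span B (Set.range (KaehlerDifferential.D A B)) := by
      rw [KaehlerDifferential.span_range_derivation]; trivial
    induction hω using Submodule.span_induction generalizing c with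
    | mem ω hω => obtain ⟨b, rfl⟩ := hω; exact h c b
    | zero => rw [TensorProduct.tmul_zero]; exact h0
    | add x y _ _ hx hy => rw [TensorProduct.tmul_add]; exact hadd _ _ (hx c) (hy c)
    | smul b x _ hx => rw [← TensorProduct.smul_tmul]; exact hx (b • c)

variable (R : Type*) (A : Type*) (B : Type*) (C : Type*) [CommRing R] [CommRing A] [CommRing B]
  [CommRing C] [Algebra R A] [Algebra R B] [Algebra R C] [Algebra A B] [Algebra A C] [Algebra B C]
  [IsScalarTower R A B] [IsScalarTower R A C] [IsScalarTower R B C] [IsScalarTower A B C]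

/-- The map `C ⊗_A Ω_{A/R} → C ⊗_B Ω_{B/R}`. -/
noncomputable def im : C ⊗[A] Ω[A⁄R] →ₗ[C] C ⊗[B] Ω[B⁄R] :=
  ((KaehlerDifferential.mapBaseChange R A B).baseChange C) ∘ₗ
    (TensorProduct.AlgebraTensorModule.cancelBaseChange A B C C Ω[A⁄R]).symm.toLinearMap

/-- The map `C ⊗_B Ω_{B/R} → C ⊗_B Ω_{B/A}`. -/
noncomputable def pr : C ⊗[B] Ω[B⁄R] →ₗ[C] C ⊗[B] Ω[B⁄A] :=
  (KaehlerDifferential.map R A B B).baseChange C

theorem im_tmul (c : C) (ω : Ω[A⁄R]) : im R A B C (c ⊗ₜ ω) =
    c ⊗ₜ KaehlerDifferential.map R R A B ω := by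
  rw [im, LinearMap.comp_apply, LinearEquiv.coe_coe,
    TensorProduct.AlgebraTensorModule.cancelBaseChange_symm_tmul,
    LinearMap.baseChange_tmul, KaehlerDifferential.mapBaseChange_tmul, one_smul]

theorem im_tmul_D (c : C) (a : A) : im R A B C (c ⊗ₜ KaehlerDifferential.D R A a) =
    c ⊗ₜ KaehlerDifferential.D R B (algebraMap A B a) := by
  rw [im_tmul, KaehlerDifferential.map_D]

theorem pr_tmul_D (c : C) (b : B) : pr R A B C (c ⊗ₜ KaehlerDifferential.D R B b) =
    c ⊗ₜ KaehlerDifferential.D A B b := by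
  rw [pr, LinearMap.baseChange_tmul, KaehlerDifferential.map_D]
  rfl

theorem mapBaseChange_im (z : C ⊗[A] Ω[A⁄R]) :
    KaehlerDifferential.mapBaseChange R B C (im R A B C z) =
      KaehlerDifferential.mapBaseChange R A C z := by
  induction z using induction_tmul_D' with
  | h0 => rw [map_zero, map_zero, map_zero]
  | hadd x y hx hy => rw [map_add, map_add, map_add, hx, hy]
  | h c b =>
    rw [im_tmul_D, KaehlerDifferential.mapBaseChange_tmul, KaehlerDifferential.mapBaseChange_tmul,
      KaehlerDifferential.map_D, KaehlerDifferential.map_D, ← IsScalarTower.algebraMap_apply]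

/-- Exactness of `C ⊗_A Ω_{A/R} → C ⊗_B Ω_{B/R} → C ⊗_B Ω_{B/A}`. -/
theorem exact_im (y : C ⊗[B] Ω[B⁄R]) :
    pr R A B C y = 0 ↔ ∃ z : C ⊗[A] Ω[A⁄R], im R A B C z = y := by
  have h := lTensor_exact C (KaehlerDifferential.exact_mapBaseChange_map R A B)
    (KaehlerDifferential.map_surjective R A B)
  have h1 : pr R A B C y = 0 ↔ (KaehlerDifferential.map R A B B).lTensor C y = 0 := Iff.rfl
  rw [h1, h y]
  constructor
  · rintro ⟨w, rfl⟩
    refine ⟨TensorProduct.AlgebraTensorModule.cancelBaseChange A B C C Ω[A⁄R] w, ?_⟩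
    rw [im, LinearMap.comp_apply, LinearEquiv.coe_coe, LinearEquiv.symm_apply_apply]
    rfl
  · rintro ⟨z, rfl⟩
    exact ⟨_, rfl⟩

theorem pr_surjective : Function.Surjective (pr R A B C) :=
  LinearMap.lTensor_surjective C (KaehlerDifferential.map_surjective R A B)

theorem pr_im (z : C ⊗[A] Ω[A⁄R]) : pr R A B C (im R A B C z) = 0 :=
  (exact_im R A B C _).2 ⟨z, rfl⟩

theorem map_mapBaseChange (z : C ⊗[B] Ω[B⁄R]) :
    KaehlerDifferential.map R A C C (KaehlerDifferential.mapBaseChange R B C z) =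
      KaehlerDifferential.mapBaseChange A B C (pr R A B C z) := by
  induction z using induction_tmul_D' with
  | h0 => rw [map_zero, map_zero, map_zero, map_zero]
  | hadd x y hx hy => rw [map_add, map_add, map_add, map_add, hx, hy]
  | h c b =>
    rw [pr_tmul_D, KaehlerDifferential.mapBaseChange_tmul, KaehlerDifferential.mapBaseChange_tmul,
      map_smul, KaehlerDifferential.map_D, KaehlerDifferential.map_D, KaehlerDifferential.map_D]
    rfl

/-- `Υ_{C/B/R} → Υ_{C/B/A}` is surjective. -/
theorem exists_lift (w : C ⊗[B] Ω[B⁄A]) (hw : KaehlerDifferential.mapBaseChange A B C w = 0) :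
    ∃ z : C ⊗[B] Ω[B⁄R], KaehlerDifferential.mapBaseChange R B C z = 0 ∧ pr R A B C z = w := by
  obtain ⟨z₀, rfl⟩ := pr_surjective R A B C w
  rw [← map_mapBaseChange] at hw
  obtain ⟨v, hv⟩ := (KaehlerDifferential.exact_mapBaseChange_map R A C _).1 hw
  refine ⟨z₀ - im R A B C v, ?_, ?_⟩
  · rw [map_sub, mapBaseChange_im, hv, sub_self]
  · rw [map_sub, pr_im, sub_zero]

end

section

variable (R : Type*) (A : Type*) (A' : Type*) (B : Type*) (C : Type*) [CommRing R] [CommRing A]
  [CommRing A'] [CommRing B]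
  [CommRing C] [Algebra R A] [Algebra R A'] [Algebra A A'] [Algebra R B] [Algebra R C] [Algebra A B]
  [Algebra A C] [Algebra A' B] [Algebra A' C] [Algebra B C]
  [IsScalarTower R A A'] [IsScalarTower R A B] [IsScalarTower R A C] [IsScalarTower R A' B]
  [IsScalarTower R A' C] [IsScalarTower A A' B] [IsScalarTower A A' C]
  [IsScalarTower R B C] [IsScalarTower A B C] [IsScalarTower A' B C]

theorem pr_pr (z : C ⊗[B] Ω[B⁄R]) : pr A A' B C (pr R A B C z) = pr R A' B C z := by
  induction z using induction_tmul_D' with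
  | h0 => rw [map_zero, map_zero, map_zero]
  | hadd x y hx hy => rw [map_add, map_add, map_add, hx, hy]
  | h c b => rw [pr_tmul_D, pr_tmul_D, pr_tmul_D]

end

end K105.KTower
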