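import Groth.Prelude.Def_TopMod
import Groth.Prelude.Def_LinTop
import Mathlib.Topology.Algebra.Group.Basic
import Mathlib.Topology.Algebra.OpenSubgroup
import Mathlib.LinearAlgebra.Quotient.Basic

/-!
Basic facts on modules with the topology deduced from that of the base ring.
-/

set_option autoImplicit false
universe u v w

namespace K105.TopModA

variable {A : Type u} [CommRing A] [TopologicalSpace A]
variable {M : Type v} [AddCommGroup M] [Module A M] [TopologicalSpace M]

theorem mem_nhds_zero (hM : TopMod.IsDeduced A M) {J : Ideal A} (hJ : IsOpen (J : Set A)) :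
    ((J • ⊤ : Submodule A M) : Set M) ∈ nhds (0 : M) := hM.2.mem_of_mem hJ

theorem isOpen_of_smul_le (hM : TopMod.IsDeduced A M) {J : Ideal A} (hJ : IsOpen (J : Set A))
    (P : Submodule A M) (hP : (J • ⊤ : Submodule A M) ≤ P) : IsOpen (P : Set M) := by
  have := hM.1
  exact AddSubgroup.isOpen_of_mem_nhds P.toAddSubgroup (g := 0)
    (Filter.mem_of_superset (mem_nhds_zero hM hJ) hP)

theorem isOpen_smul_top (hM : TopMod.IsDeduced A M) {J : Ideal A} (hJ : IsOpen (J : Set A)) :
    IsOpen ((J • ⊤ : Submodule A M) : Set M) := isOpen_of_smul_le hM hJ _ le_rfl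

/-- A linear map to a discrete module with open kernel is continuous. -/
theorem continuous_of_isOpen_ker (hM : IsTopologicalAddGroup M) {E : Type w} [AddCommGroup E]
    [Module A E] [TopologicalSpace E] [DiscreteTopology E] (v : M →ₗ[A] E)
    (hv : IsOpen (LinearMap.ker v : Set M)) : Continuous v := by
  have : IsTopologicalAddGroup E := ⟨⟩
  refine continuous_of_continuousAt_zero v ?_
  rw [ContinuousAt, map_zero, nhds_discrete E, Filter.tendsto_pure]
  filter_upwards [hv.mem_nhds (zero_mem (LinearMap.ker v))] with x hx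
  exact hx

theorem continuous_of_smul_le_ker (hM : TopMod.IsDeduced A M) {E : Type w} [AddCommGroup E]
    [Module A E] [TopologicalSpace E] [DiscreteTopology E] (v : M →ₗ[A] E)
    {J : Ideal A} (hJ : IsOpen (J : Set A)) (hv : (J • ⊤ : Submodule A M) ≤ LinearMap.ker v) :
    Continuous v :=
  continuous_of_isOpen_ker hM.1 v (isOpen_of_smul_le hM hJ _ hv)

/-- A continuous linear map to a discrete module kills some `J • ⊤` with `J` open. -/
theorem exists_smul_le_ker (hM : TopMod.IsDeduced A M) {E : Type w} [AddCommGroup E]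
    [Module A E] [TopologicalSpace E] [DiscreteTopology E] (v : M →ₗ[A] E) (hv : Continuous v) :
    ∃ J : Ideal A, IsOpen (J : Set A) ∧ (J • ⊤ : Submodule A M) ≤ LinearMap.ker v := by
  have h0 : v ⁻¹' {0} ∈ nhds (0 : M) := by
    refine (hv.isOpen_preimage _ (isOpen_discrete _)).mem_nhds ?_
    simp
  obtain ⟨J, hJ, hJ'⟩ := hM.2.mem_iff.1 h0
  exact ⟨J, hJ, fun x hx => hJ' hx⟩

theorem isOpen_inf [ContinuousAdd A] {I J : Ideal A} (hI : IsOpen (I : Set A)) (hJ : IsOpen (J : Set A)) :
    IsOpen ((I ⊓ J : Ideal A) : Set A) := hI.inter hJ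

end K105.TopModA
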